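/-
Involution classes whose products have order 1, 2 or a fixed odd prime: elementary facts.
-/
import Cfsg.Agent.H85.BrauerSuzuki
import Cfsg.Agent.H66.Isolated
import Cfsg.Agent.CompBasic

set_option autoImplicit false

namespace H92.TP

variable {G : Type*} [Group G]

/-- A normal set of involutions in which any two members commute or have product of order
dividing `p`, for a prime `p ≥ 5`. -/
structure Cls (p : ℕ) (D : Set G) : Prop where
  prime : p.Prime
  five : 5 ≤ p
  sq : ∀ d ∈ D, d * d = 1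
  ne : ∀ d ∈ D, d ≠ 1
  conj : ∀ (g : G), ∀ d ∈ D, g * d * g⁻¹ ∈ D
  ord : ∀ d ∈ D, ∀ e ∈ D, Commute d e ∨ (d * e) ^ p = 1

variable {p : ℕ} {D : Set G}

namespace Cls

variable (hD : Cls p D)
include hD

theorem inv_eq {d : G} (hd : d ∈ D) : d⁻¹ = d := inv_eq_of_mul_eq_one_right (hD.sq d hd)

theorem conjD {d e : G} (hd : d ∈ D) (he : e ∈ D) : d * e * d ∈ D := by
  have := hD.conj d e he
  rwa [hD.inv_eq hd] at this

theorem odd : Odd p := hD.prime.odd_of_ne_two (by have := hD.five; omega)

theorem inverts {d e : G} (hd : d ∈ D) (he : e ∈ D) : d * (d * e) * d = (d * e)⁻¹ := by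
  rw [mul_inv_rev, hD.inv_eq hd, hD.inv_eq he, ← mul_assoc, hD.sq d hd, one_mul]

theorem pow_prod {d e : G} (hd : d ∈ D) (he : e ∈ D) (h : ¬ Commute d e) : (d * e) ^ p = 1 :=
  (hD.ord d hd e he).resolve_left h

theorem orderOf_prod {d e : G} (hd : d ∈ D) (he : e ∈ D) (h : ¬ Commute d e) :
    orderOf (d * e) = p := by
  haveI := Fact.mk hD.prime
  refine orderOf_eq_prime (hD.pow_prod hd he h) fun h1 => h ?_
  have : e = d := by
    rw [← hD.inv_eq hd]; exact eq_inv_of_mul_eq_one_right h1
  rw [this]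

theorem not_comm_of_ne {d e : G} (hd : d ∈ D) (h : d * e * d ≠ e) : ¬ Commute d e := fun hc => h (by
  rw [hc.eq, mul_assoc, hD.sq d hd, mul_one])

theorem ne_of_not_comm {d e : G} (hd : d ∈ D) (h : ¬ Commute d e) : d * e * d ≠ e := fun he => h (by
  show d * e = e * d
  calc d * e = d * e * (d * d) := by rw [hD.sq d hd, mul_one]
    _ = (d * e * d) * d := by simp only [mul_assoc]
    _ = e * d := by rw [he])

theorem conj_pow_prod {d e : G} (hd : d ∈ D) (he : e ∈ D) (n : ℕ) :
    d * (d * e) ^ n * d = ((d * e) ^ n)⁻¹ := by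
  have := congrArg (· ^ n) (hD.inverts hd he)
  simp only [← inv_pow] at this ⊢
  rw [← this]
  nth_rw 3 [← hD.inv_eq hd]
  rw [← conj_pow, hD.inv_eq hd]

/-- The middle of two members with product of order `p`. -/
theorem exists_mid {d e : G} (hd : d ∈ D) (he : e ∈ D) (h : ¬ Commute d e) :
    ∃ m ∈ D, (m = (d * e) ^ (p / 2) * d) ∧ m * d * m = e ∧ ¬ Commute m d := by
  set s := d * e with hs
  set i := p / 2
  have hp : s ^ p = 1 := hD.pow_prod hd he h
  have hodd := Nat.two_mul_div_two_add_one_of_odd hD.odd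
  have key : ∀ n : ℕ, s ^ n * d * (s ^ n)⁻¹ = s ^ (2 * n) * d := by
    intro n
    rw [← hD.conj_pow_prod hd he n, ← mul_assoc, ← mul_assoc, mul_assoc (s ^ n) d d, hD.sq d hd,
      mul_one, ← pow_add, two_mul]
  refine ⟨s ^ i * d, ?_, rfl, ?_⟩
  · have h2 : s ^ i * d = s ^ (2 * (i * (i + 1))) * d := by
      congr 1
      rw [show 2 * (i * (i + 1)) = p * i + i by rw [← hodd]; ring, pow_add, pow_mul, hp, one_pow,
        one_mul]
    rw [h2, ← key]
    exact hD.conj _ d hd
  have hm : s ^ i * d * d * (s ^ i * d) = e := by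
    rw [mul_assoc (s ^ i) d d, hD.sq d hd, mul_one, ← mul_assoc, ← pow_add]
    have hinv : s ^ (i + i) = s⁻¹ := by
      refine eq_inv_of_mul_eq_one_left ?_
      rw [← pow_succ, show i + i + 1 = p by omega, hp]
    rw [hinv, hs, mul_inv_rev, hD.inv_eq hd, hD.inv_eq he, mul_assoc, hD.sq d hd, mul_one]
  refine ⟨hm, fun hc => h ?_⟩
  have hmm : (s ^ i * d) * (s ^ i * d) = 1 := by
    rw [mul_assoc, ← mul_assoc d, hD.conj_pow_prod hd he, mul_inv_cancel]
  have hde : d = e := by rw [← hm, hc.eq, mul_assoc, hmm, mul_one]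
  rw [hde]

/-- Two members moving a member to the same place are equal. -/
theorem swap_unique {d e u : G} (hd : d ∈ D) (he : e ∈ D) (hu : u ∈ D)
    (h : d * u * d = e * u * e) (hne : d * u * d ≠ u) : d = e := by
  suffices key : ∀ x ∈ D, x * u * x = d * u * d → x = (u * (d * u * d)) ^ (p / 2) * u by
    rw [key d hd rfl]
    exact (key e he h.symm).symm
  intro x hx hxu
  set v := d * u * d with hv
  have hvD : v ∈ D := hD.conjD hd hu
  have hxv : x * v * x = u := by
    rw [← hxu, ← mul_assoc, ← mul_assoc, hD.sq x hx, one_mul, mul_assoc, hD.sq x hx, mul_one]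
  have hnc : ¬ Commute u v := by
    intro hc
    refine hne ?_
    rcases hD.ord x hx u hu with hxc | hxp
    · rw [← hxu, hxc.eq, mul_assoc, hD.sq x hx, mul_one]
    · have hq : (x * u) ^ 2 = v * u := by rw [pow_two, ← hxu, ← mul_assoc]
      have h2 : (x * u) ^ 4 = 1 := by
        rw [show (4 : ℕ) = 2 * 2 from rfl, pow_mul, hq, pow_two, ← mul_assoc, mul_assoc v u v, hc.eq,
          ← mul_assoc v v u, hD.sq v hvD, one_mul, hD.sq u hu]
      have hcop : Nat.Coprime 4 p := by
        rw [show (4 : ℕ) = 2 ^ 2 from rfl]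
        exact (Nat.coprime_two_left.mpr hD.odd).pow_left 2
      have h1 := pow_gcd_eq_one.mpr ⟨h2, hxp⟩
      rw [hcop.gcd_eq_one, pow_one] at h1
      rw [← hxu, h1, one_mul, ← hD.inv_eq hx]
      exact (inv_eq_of_mul_eq_one_right h1)
  obtain ⟨m, hm, hmeq, hmu, -⟩ := hD.exists_mid hu hvD hnc
  have hp : (u * v) ^ p = 1 := hD.pow_prod hu hvD hnc
  have hodd := Nat.two_mul_div_two_add_one_of_odd hD.odd
  have hxs : x * (u * v) * x = (u * v)⁻¹ := by
    rw [mul_inv_rev, hD.inv_eq hu, hD.inv_eq hvD]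
    calc x * (u * v) * x = (x * u * x) * (x * v * x) := by
          simp only [← mul_assoc, mul_assoc _ x x, hD.sq x hx, mul_one]
      _ = v * u := by rw [hxu, hxv]
  have hxc : Commute x m := by
    have hpw : x * (u * v) ^ (p / 2) * x = ((u * v) ^ (p / 2))⁻¹ := by
      nth_rw 2 [← hD.inv_eq hx]
      rw [← conj_pow, hD.inv_eq hx, hxs, inv_pow]
    have h1 : x * m * x = m := by
      rw [hmeq]
      calc x * ((u * v) ^ (p / 2) * u) * x = (x * (u * v) ^ (p / 2) * x) * (x * u * x) := by
            simp only [← mul_assoc, mul_assoc _ x x, hD.sq x hx, mul_one]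
        _ = ((u * v) ^ (p / 2))⁻¹ * v := by rw [hpw, hxu]
        _ = ((u * v) ^ (p / 2))⁻¹ * (u⁻¹ * (u * v)) := by rw [inv_mul_cancel_left]
        _ = (u * v) ^ (p / 2) * u := by
          rw [inv_mul_eq_iff_eq_mul, ← mul_assoc ((u * v) ^ _) ((u * v) ^ _) u, ← pow_add, hD.inv_eq hu]
          have hinv : (u * v) ^ (p / 2 + p / 2) = (u * v)⁻¹ := eq_inv_of_mul_eq_one_left (by
            rw [← pow_succ, show p / 2 + p / 2 + 1 = p by omega, hp])
          rw [hinv, mul_inv_rev, hD.inv_eq hu, hD.inv_eq hvD, ← mul_assoc, hD.sq u hu, one_mul,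
            mul_assoc, hD.sq u hu, mul_one]
    show x * m = m * x
    calc x * m = x * m * (x * x) := by rw [hD.sq x hx, mul_one]
      _ = (x * m * x) * x := by simp only [mul_assoc]
      _ = m * x := by rw [h1]
  rw [← hmeq]
  set c := x * m with hc
  have hc2 : c * c = 1 := by
    calc x * m * (x * m) = x * (m * x) * m := by simp only [mul_assoc]
      _ = (x * x) * (m * m) := by rw [← hxc.eq]; simp only [mul_assoc]
      _ = 1 := by rw [hD.sq x hx, hD.sq m hm, one_mul]
  have hcu : Commute c u := by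
    show x * m * u = u * (x * m)
    calc x * m * u = x * (m * u * m) * m := by
          simp only [mul_assoc, hD.sq m hm, mul_one]
      _ = x * v * x * (x * m) := by
          rw [hmu]; simp only [← mul_assoc, mul_assoc _ x x, hD.sq x hx, mul_one]
      _ = u * (x * m) := by rw [hxv]
  have hcm : Commute c m := hxc.mul_left (Commute.refl m)
  have hxu' : ¬ Commute x u := hD.not_comm_of_ne hx (hxu ▸ hne)
  have hmu' : ¬ Commute m u := hD.not_comm_of_ne hm (by rw [hmu]; exact hne)
  have hsplit : (x * u) ^ p = c ^ p * (m * u) ^ p := by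
    rw [← (hcm.mul_right hcu).mul_pow, hc]
    congr 1
    rw [mul_assoc x m, ← mul_assoc m m u, hD.sq m hm, one_mul]
  rw [hD.pow_prod hx hu hxu', hD.pow_prod hm hu hmu', mul_one] at hsplit
  obtain ⟨j, hj⟩ := hD.odd
  rw [hj, pow_succ, pow_mul, pow_two, hc2, one_pow, one_mul] at hsplit
  calc x = x * (m * m) := by rw [hD.sq m hm, mul_one]
    _ = m := by rw [← mul_assoc, ← hc, ← hsplit, one_mul]

/-- A member centralising the product of a noncommuting pair commutes with both. -/
theorem comm_of_centralises {d e y : G} (hd : d ∈ D) (he : e ∈ D) (hde : ¬ Commute d e)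
    (hy : y ∈ D) (h : Commute y (d * e)) : Commute y d := by
  by_contra hyd
  set d' := y * d * y with hd'
  have hd'D : d' ∈ D := hD.conjD hy hd
  have hne : d' ≠ d := hD.ne_of_not_comm hy hyd
  have hinv' : d' * (d * e) * d' = (d * e)⁻¹ := by
    calc d' * (d * e) * d' = y * d * (y * (d * e) * y) * d * y := by
          simp only [hd', mul_assoc]
      _ = y * (d * (d * e) * d) * y := by
          rw [h.eq, mul_assoc (d * e) y y, hD.sq y hy, mul_one]; simp only [mul_assoc]
      _ = (d * e)⁻¹ := by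
          rw [hD.inverts hd he, h.inv_right.eq, mul_assoc, hD.sq y hy, mul_one]
  have hnc : ¬ Commute d d' := by
    intro hc
    refine hyd ?_
    rcases hD.ord y hy d hd with hc' | hpw
    · exact hc'
    · have hq : (y * d) ^ 2 = d' * d := by rw [pow_two, hd', ← mul_assoc]
      have h4 : (y * d) ^ 4 = 1 := by
        rw [show (4 : ℕ) = 2 * 2 from rfl, pow_mul, hq, pow_two, ← mul_assoc, mul_assoc d' d d', hc.eq,
          ← mul_assoc d' d' d, hD.sq d' hd'D, one_mul, hD.sq d hd]
      have hcop : Nat.Coprime 4 p := by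
        rw [show (4 : ℕ) = 2 ^ 2 from rfl]
        exact (Nat.coprime_two_left.mpr hD.odd).pow_left 2
      have h1 := pow_gcd_eq_one.mpr ⟨h4, hpw⟩
      rw [hcop.gcd_eq_one, pow_one] at h1
      exact (mul_eq_one_iff_eq_inv.mp h1) ▸ (Commute.refl d).inv_left
  obtain ⟨m, hm, hmeq, hmd, -⟩ := hD.exists_mid hd hd'D hnc
  have hym : y = m := hD.swap_unique hy hm hd (by rw [hmd]) hne
  -- the middle inverts the product
  have hcomm : Commute (d * d') (d * e) := by
    show d * d' * (d * e) = d * e * (d * d')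
    calc d * d' * (d * e) = d * (d' * (d * e) * d') * d' := by
          simp only [mul_assoc, hD.sq d' hd'D, mul_one]
      _ = d * (d * e)⁻¹ * d' := by rw [hinv']
      _ = d * e * (d * d') := by
          rw [mul_inv_rev, hD.inv_eq hd, hD.inv_eq he]; simp only [mul_assoc]
  have hminv : m * (d * e) * m = (d * e)⁻¹ := by
    set S := (d * d') ^ (p / 2) with hS
    have hSc : Commute S (d * e) := hcomm.pow_left _
    have hdS : d * S = S⁻¹ * d := by
      rw [hS, ← hD.conj_pow_prod hd hd'D, mul_assoc (d * _) d d, hD.sq d hd, mul_one]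
    rw [hmeq]
    calc S * d * (d * e) * (S * d) = S * d * ((d * e) * S) * d := by simp only [mul_assoc]
      _ = S * d * (S * (d * e)) * d := by rw [← hSc.eq]
      _ = S * (d * S) * (d * e) * d := by simp only [mul_assoc]
      _ = d * (d * e) * d := by rw [hdS, ← mul_assoc S, mul_inv_cancel, one_mul]
      _ = (d * e)⁻¹ := hD.inverts hd he
  rw [← hym, h.eq, mul_assoc, hD.sq y hy, mul_one] at hminv
  have h2 : orderOf (d * e) ∣ 2 := orderOf_dvd_of_pow_eq_one (by
    rw [pow_two]; nth_rw 2 [hminv]; rw [mul_inv_cancel])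
  rw [hD.orderOf_prod hd he hde] at h2
  have := Nat.le_of_dvd (by norm_num) h2
  have := hD.five
  omega

end Cls

/-- A class of involutions with any two products of order dividing `p` has prime power size. -/
theorem class_card {R : Type*} [Group R] [Finite R] {S : Set R} {p : ℕ} (hp : p.Prime)
    (hp2 : p ≠ 2) (hne : S.Nonempty) (hsq : ∀ d ∈ S, d * d = 1) (h1 : ∀ d ∈ S, d ≠ 1)
    (hconj : ∀ g : R, ∀ d ∈ S, g * d * g⁻¹ ∈ S) (hgen : Subgroup.closure S = ⊤)
    (hpair : ∀ d ∈ S, ∀ e ∈ S, (d * e) ^ p = 1) : ∃ k, S.ncard = p ^ k := by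
  obtain ⟨d, hd⟩ := hne
  haveI : Fact (Nat.Prime 2) := ⟨Nat.prime_two⟩
  have hpodd : Odd p := hp.odd_of_ne_two hp2
  have heq : ∀ e ∈ S, ∀ f ∈ S, Commute e f → e = f := by
    intro e he f hf hc
    obtain ⟨j, hj⟩ := hpodd
    have h2 : (e * f) * (e * f) = 1 := by
      rw [mul_assoc e f, hc.eq, ← mul_assoc f f e, hsq f hf, one_mul, hsq e he]
    have := hpair e he f hf
    rw [hj, pow_succ, pow_mul, pow_two, h2, one_pow, one_mul, mul_eq_one_iff_eq_inv,
      inv_eq_of_mul_eq_one_right (hsq f hf)] at this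
    exact this
  have hiso : Cfsg.IsIsolatedInvolution d := by
    refine ⟨H66.orderOf_two_of_sq (h1 d hd) (hsq d hd), fun g hg => ?_⟩
    exact (heq d hd _ (hconj g d hd) hg).symm
  have hz := H85.zStar hiso
  set O := Cfsg.pPrimeCore 2 R with hOdef
  have hOodd : ¬ 2 ∣ Nat.card O := Cfsg.Comp.not_dvd_card_pPrimeCore 2
  -- every member of the class is a conjugate under the core
  have htop : ∀ g : R, g ∈ O ∨ d⁻¹ * g ∈ O := by
    have hcl : ∀ e ∈ S, d⁻¹ * e ∈ O := by
      intro e he
      obtain ⟨k, -, -, -, hk⟩ := H66.exists_conj_of_odd_mul (hsq d hd) (hsq e he)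
        (hpodd.of_dvd_nat (orderOf_dvd_of_pow_eq_one (hpair d hd e he)))
      have h := Subgroup.Normal.conj_mem (inferInstance : O.Normal) _ (hz k) d⁻¹
      rw [← hk]
      have h' := O.inv_mem h
      convert h' using 1
      group
    intro g
    have hg : g ∈ Subgroup.closure S := hgen ▸ Subgroup.mem_top g
    induction hg using Subgroup.closure_induction with
    | mem x hx => exact Or.inr (hcl x hx)
    | one => exact Or.inl (one_mem _)
    | mul a b _ _ ha hb =>
      rcases ha with ha | ha <;> rcases hb with hb | hb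
      · exact Or.inl (mul_mem ha hb)
      · refine Or.inr ?_
        have h := mul_mem (Subgroup.Normal.conj_mem (inferInstance : O.Normal) a ha d⁻¹) hb
        convert h using 1
        group
      · refine Or.inr ?_
        rw [← mul_assoc]; exact mul_mem ha hb
      · refine Or.inl ?_
        have e : a * b = (d * (d⁻¹ * a) * d⁻¹) * ((d * d) * (d⁻¹ * b)) := by group
        rw [e, hsq d hd, one_mul]
        exact mul_mem (Subgroup.Normal.conj_mem (inferInstance : O.Normal) _ ha d) hb
    | inv a _ ha =>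
      rcases ha with ha | ha
      · exact Or.inl (inv_mem ha)
      · refine Or.inr ?_
        have h := Subgroup.Normal.conj_mem (inferInstance : O.Normal) _ (inv_mem ha) d
        have hdd : d⁻¹ = d := inv_eq_of_mul_eq_one_right (hsq d hd)
        convert h using 1
        rw [mul_inv_rev, inv_inv, hdd]
        simp only [mul_assoc, hsq d hd, mul_one]
  have hS : ∀ e, e ∈ S ↔ ∃ o ∈ O, o * d * o⁻¹ = e := by
    intro e
    constructor
    · intro he
      obtain ⟨k, -, -, -, hk⟩ := H66.exists_conj_of_odd_mul (hsq d hd) (hsq e he)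
        (hpodd.of_dvd_nat (orderOf_dvd_of_pow_eq_one (hpair d hd e he)))
      rcases htop k with h | h
      · exact ⟨k, h, hk⟩
      · refine ⟨k * d⁻¹, ?_, ?_⟩
        · have h' := Subgroup.Normal.conj_mem (inferInstance : O.Normal) _ h d
          convert h' using 1
          group
        · rw [← hk]; group
    · rintro ⟨o, -, rfl⟩
      exact hconj o d hd
  let C := (Subgroup.centralizer ({d} : Set R)).subgroupOf O
  have hcard : S.ncard = C.index := by
    rw [← Nat.card_coe_set_eq]
    refine Nat.card_congr ?_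
    refine (Equiv.ofBijective (fun q : O ⧸ C => (⟨Quotient.liftOn' q (fun o : O => (o : R) * d * (o : R)⁻¹)
      ?_, ?_⟩ : S)) ⟨?_, ?_⟩).symm
    · intro a b hab
      rw [QuotientGroup.leftRel_apply] at hab
      have hc := Subgroup.mem_centralizer_singleton_iff.mp hab
      replace hc : (a : R)⁻¹ * b * d = d * ((a : R)⁻¹ * b) := hc
      calc (a : R) * d * (a : R)⁻¹ = a * (d * ((a : R)⁻¹ * b)) * (b : R)⁻¹ := by group
        _ = a * (((a : R)⁻¹ * b) * d) * (b : R)⁻¹ := by rw [hc]
        _ = b * d * (b : R)⁻¹ := by group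
    · induction q using Quotient.inductionOn' with | h o => exact hconj _ d hd
    · intro q q' h
      induction q using Quotient.inductionOn' with | h a =>
      induction q' using Quotient.inductionOn' with | h b =>
      simp only [Quotient.liftOn'_mk'', Subtype.mk.injEq] at h
      refine Quotient.sound' ?_
      rw [QuotientGroup.leftRel_apply]
      refine Subgroup.mem_centralizer_singleton_iff.mpr ?_
      show (a : R)⁻¹ * b * d = d * ((a : R)⁻¹ * b)
      calc (a : R)⁻¹ * b * d = (a : R)⁻¹ * ((b : R) * d * (b : R)⁻¹) * b := by group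
        _ = d * ((a : R)⁻¹ * b) := by rw [← h]; group
    · rintro ⟨e, he⟩
      obtain ⟨o, ho, rfl⟩ := (hS e).mp he
      exact ⟨QuotientGroup.mk ⟨o, ho⟩, rfl⟩
  refine ⟨_, Nat.eq_prime_pow_of_unique_prime_dvd ?_ fun {r} hr hrd => ?_⟩
  · rw [hcard]; exact Subgroup.index_ne_zero_of_finite
  by_contra hrp
  haveI := Fact.mk hr
  rw [hcard] at hrd
  obtain ⟨P⟩ : Nonempty (Sylow r O) := inferInstance
  set N := Subgroup.normalizer (((P : Subgroup O).map O.subtype : Subgroup R) : Set R) with hNdef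
  obtain ⟨n, hn, o, ho, hno⟩ : ∃ n ∈ N, ∃ o ∈ O, n * o = d := by
    have hsup : N ⊔ O = ⊤ := Sylow.normalizer_sup_eq_top P
    have hdm : d ∈ N ⊔ O := hsup ▸ Subgroup.mem_top d
    rw [← SetLike.mem_coe, Subgroup.mul_normal] at hdm
    exact hdm
  have hnO : n ∉ O := fun h => by
    have hdO : d ∈ O := hno ▸ mul_mem h ho
    exact hOodd (hiso.1 ▸ Subgroup.orderOf_dvd_natCard O hdO)
  obtain ⟨a, m, hm, hnm⟩ := Nat.exists_eq_two_pow_mul_odd (orderOf_pos n).ne'
  have hn2 : d⁻¹ * n ∈ O := (htop n).resolve_left hnO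
  set e := n ^ m with he
  have heO : e ∉ O := by
    intro h
    refine hnO ?_
    obtain ⟨j, hj⟩ := hm
    rw [he, hj, pow_succ, pow_mul] at h
    have h2 : n ^ 2 ∈ O := by
      have e2 : n ^ 2 = (d * (d⁻¹ * n) * d⁻¹) * ((d * d) * (d⁻¹ * n)) := by rw [pow_two]; group
      rw [e2, hsq d hd, one_mul]
      exact mul_mem (Subgroup.Normal.conj_mem (inferInstance : O.Normal) _ hn2 d) hn2
    simpa using mul_mem (inv_mem (pow_mem h2 j)) h
  have he2 : e * e = 1 := by
    have hpow : e ^ (2 ^ a) = 1 := by rw [he, ← pow_mul, mul_comm, ← hnm, pow_orderOf_eq_one]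
    have hee : e * e ∈ O := by
      have h2 : d⁻¹ * e ∈ O := (htop e).resolve_left heO
      have e2 : e * e = (d * (d⁻¹ * e) * d⁻¹) * ((d * d) * (d⁻¹ * e)) := by group
      rw [e2, hsq d hd, one_mul]
      exact mul_mem (Subgroup.Normal.conj_mem (inferInstance : O.Normal) _ h2 d) h2
    have hdvd : orderOf (e * e) ∣ 2 ^ a := orderOf_dvd_of_pow_eq_one (by
      rw [← pow_two, ← pow_mul, mul_comm, pow_mul, hpow, one_pow])
    have hdvdO := Subgroup.orderOf_dvd_natCard O hee
    have hcop : Nat.Coprime (2 ^ a) (Nat.card O) :=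
      ((Nat.Prime.coprime_iff_not_dvd Nat.prime_two).mpr hOodd).pow_left a
    exact orderOf_eq_one_iff.mp (Nat.eq_one_of_dvd_coprimes hcop hdvd hdvdO)
  have heS : e ∈ S := by
    have h2 : d⁻¹ * e ∈ O := (htop e).resolve_left heO
    have hodd : Odd (orderOf (d * e)) := by
      rw [inv_eq_of_mul_eq_one_right (hsq d hd)] at h2
      have := Subgroup.orderOf_dvd_natCard O h2
      exact (Nat.odd_iff.mpr (by omega)).of_dvd_nat this
    obtain ⟨k, -, -, -, hk⟩ := H66.exists_conj_of_odd_mul (hsq d hd) he2 hodd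
    exact hk ▸ hconj k d hd
  obtain ⟨o', ho', hoe⟩ := (hS e).mp heS
  have hPc : ∀ u ∈ (P : Subgroup O).map O.subtype, Commute e u := by
    intro u hu
    have hmem : e * u * e⁻¹ * u⁻¹ ∈ (P : Subgroup O).map O.subtype :=
      mul_mem ((Subgroup.mem_normalizer_iff.mp (pow_mem hn m) u).mp hu) (inv_mem hu)
    have hp' : (e * u * e⁻¹ * u⁻¹) ^ p = 1 := by
      have h := hpair e heS _ (hconj u e⁻¹ (by rw [inv_eq_of_mul_eq_one_right he2]; exact heS))
      convert h using 2
      group
    obtain ⟨j, hj⟩ := (P.isPGroup'.map O.subtype) ⟨_, hmem⟩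
    have hj' : (e * u * e⁻¹ * u⁻¹) ^ (r ^ j) = 1 := congrArg Subtype.val hj
    have hcop : Nat.Coprime (r ^ j) p := ((Nat.coprime_primes hr hp).mpr hrp).pow_left j
    have h1 := pow_gcd_eq_one.mpr ⟨hj', hp'⟩
    rw [hcop.gcd_eq_one, pow_one, mul_inv_eq_one, mul_inv_eq_iff_eq_mul] at h1
    exact h1
  let τ : O := ⟨o', ho'⟩
  have hPC : ∀ u ∈ (P : Subgroup O), τ⁻¹ * u * τ ∈ C := by
    intro u hu
    refine Subgroup.mem_centralizer_singleton_iff.mpr ?_
    have h := hPc u (Subgroup.mem_map_of_mem _ hu)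
    rw [← hoe] at h
    have h' := h.eq
    show (o'⁻¹ * (u : R) * o') * d = d * (o'⁻¹ * (u : R) * o')
    calc (o'⁻¹ * (u : R) * o') * d = o'⁻¹ * ((u : R) * (o' * d * o'⁻¹)) * o' := by group
      _ = o'⁻¹ * ((o' * d * o'⁻¹) * u) * o' := by rw [h']
      _ = d * (o'⁻¹ * (u : R) * o') := by group
  have hle : (P : Subgroup O).map (MulAut.conj τ⁻¹).toMonoidHom ≤ C := by
    rintro _ ⟨u, hu, rfl⟩
    simpa using hPC u hu
  have h1 := Subgroup.index_dvd_of_le hle
  rw [Subgroup.index_map_of_bijective (MulEquiv.bijective _)] at h1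
  exact P.not_dvd_index (hrd.trans h1)

end H92.TP
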