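/-
No class of involutions with products of order `1`, `2`, `p` has commuting as an equivalence relation
with blocks closed under products and semiregular outside.
-/
import Cfsg.Agent.H92.TP.Basic

set_option autoImplicit false

namespace H92.TP

open Finset

variable {G : Type*} [Group G] {p : ℕ} {D : Set G}

theorem Cls.not_comm_conj (hD : Cls p D) {d e : G} (hd : d ∈ D) (he : e ∈ D)
    (h : ¬ Commute d e) : ¬ Commute (d * e * d) e := fun hc => by
  have hq : (d * e) ^ 2 = d * e * d * e := by rw [pow_two, ← mul_assoc]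
  have h2 : ((d * e) ^ 2) ^ 2 = 1 := by
    rw [hq, pow_two, ← mul_assoc, mul_assoc (d * e * d) e (d * e * d), ← hc.eq, ← mul_assoc,
      hD.sq _ (hD.conjD hd he), one_mul, hD.sq e he]
  rw [← pow_mul] at h2
  have h1 := pow_gcd_eq_one.mpr ⟨h2, hD.pow_prod hd he h⟩
  have hcop : Nat.Coprime (2 * 2) p :=
    (Nat.coprime_two_left.mpr hD.odd).mul_left (Nat.coprime_two_left.mpr hD.odd)
  rw [hcop.gcd_eq_one, pow_one] at h1
  apply h
  have hed : e = d := by rw [← hD.inv_eq hd]; exact eq_inv_of_mul_eq_one_right h1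
  rw [hed]

theorem Cls.not_comm_conj' (hD : Cls p D) {d e : G} (hd : d ∈ D) (he : e ∈ D)
    (h : ¬ Commute d e) : ¬ Commute e (d * e * d) := fun hc => hD.not_comm_conj hd he h hc.symm

/-- The reduced configuration. -/
structure Ctx (p : ℕ) (D : Set G) : Prop where
  cls : Cls p D
  eqv : ∀ a ∈ D, ∀ b ∈ D, ∀ c ∈ D, Commute a b → Commute b c → Commute a c
  trans : ∀ a ∈ D, ∀ b ∈ D, ∃ g : G, g * a * g⁻¹ = b
  closed : ∀ a ∈ D, ∀ b ∈ D, Commute a b → a ≠ b → a * b ∈ D
  cent : ∀ c : G, ∀ a ∈ D, ∀ b ∈ D, (∀ e ∈ D, Commute a e → Commute c e) → ¬ Commute a b →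
    Commute c b → c = 1
  pair : ∃ x ∈ D, ∃ y ∈ D, ¬ Commute x y
  two : ∀ a ∈ D, ∃ b ∈ D, b ≠ a ∧ Commute a b

namespace Ctx

variable [Fintype G] [DecidableEq G] (h : Ctx p D)

noncomputable def Ds (D : Set G) : Finset G := (Set.toFinite D).toFinset

theorem mem_Ds {d : G} : d ∈ Ds D ↔ d ∈ D := (Set.toFinite D).mem_toFinset

open Classical in
/-- The members commuting with `a`. -/
noncomputable def blk (D : Set G) (a : G) : Finset G := (Ds D).filter (fun b => Commute a b)

theorem mem_blk {a b : G} : b ∈ blk D a ↔ b ∈ D ∧ Commute a b := by simp [blk, mem_Ds]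

/-- Conjugation on finite sets. -/
def cj (g : G) (s : Finset G) : Finset G := s.image fun b => g * b * g⁻¹

theorem cj_mul (g k : G) (s : Finset G) : cj (g * k) s = cj g (cj k s) := by
  simp only [cj, image_image]
  exact image_congr fun b _ => by simp [mul_assoc]

theorem cj_one (s : Finset G) : cj 1 s = s := by simp [cj]

theorem mem_cj {g b : G} {s : Finset G} (hb : b ∈ s) : g * b * g⁻¹ ∈ cj g s :=
  mem_image_of_mem _ hb

include h

theorem blk_eq {a b : G} (ha : a ∈ D) (hb : b ∈ D) : blk D a = blk D b ↔ Commute a b := by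
  constructor
  · intro e
    have : b ∈ blk D a := e ▸ mem_blk.mpr ⟨hb, Commute.refl b⟩
    exact (mem_blk.mp this).2
  · intro hab
    ext c
    simp only [mem_blk]
    exact ⟨fun ⟨hc, hac⟩ => ⟨hc, h.eqv b hb a ha c hc hab.symm hac⟩,
      fun ⟨hc, hbc⟩ => ⟨hc, h.eqv a ha b hb c hc hab hbc⟩⟩

theorem cj_blk {a : G} (g : G) : cj g (blk D a) = blk D (g * a * g⁻¹) := by
  ext b
  simp only [cj, mem_image, mem_blk]
  constructor
  · rintro ⟨c, ⟨hc, hac⟩, rfl⟩
    exact ⟨h.cls.conj g c hc, hac.map (MulAut.conj g).toMonoidHom⟩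
  · rintro ⟨hb, hab⟩
    refine ⟨g⁻¹ * b * g, ⟨by simpa using h.cls.conj g⁻¹ b hb, ?_⟩, by group⟩
    have := hab.map (MulAut.conj g⁻¹).toMonoidHom
    simpa [MulAut.conj_apply, mul_assoc] using this

omit h in
/-- The blocks. -/
noncomputable def Bl (D : Set G) : Finset (Finset G) := (Ds D).image (blk D)

omit h in
theorem mem_Bl {B : Finset G} : B ∈ Bl D ↔ ∃ a ∈ D, blk D a = B := by simp [Bl, mem_Ds]

theorem cj_mem_Bl (g : G) {B : Finset G} (hB : B ∈ Bl D) : cj g B ∈ Bl D := by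
  obtain ⟨a, ha, rfl⟩ := mem_Bl.mp hB
  rw [h.cj_blk]
  exact mem_Bl.mpr ⟨_, h.cls.conj g a ha, rfl⟩

/-- An element fixes the block of `a`. -/
theorem cj_fix_iff {a : G} (ha : a ∈ D) (g : G) :
    cj g (blk D a) = blk D a ↔ Commute (g * a * g⁻¹) a := by
  rw [h.cj_blk, h.blk_eq (h.cls.conj g a ha) ha]

theorem fix_member_iff {d a : G} (hd : d ∈ D) (ha : a ∈ D) :
    cj d (blk D a) = blk D a ↔ Commute d a := by
  rw [h.cj_fix_iff ha, h.cls.inv_eq hd]
  constructor
  · intro hc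
    by_contra hda
    exact h.cls.not_comm_conj hd ha hda hc
  · intro hda
    rw [hda.eq, mul_assoc, h.cls.sq d hd, mul_one]

/-- No member centralises the product of a noncommuting pair. -/
theorem no_fix {d e y : G} (hd : d ∈ D) (he : e ∈ D) (hde : ¬ Commute d e) (hy : y ∈ D) :
    ¬ Commute y (d * e) := fun hc => by
  have h1 := h.cls.comm_of_centralises hd he hde hy hc
  have h2 := h.cls.comm_of_centralises he hd (fun h' => hde h'.symm) hy (by
    have := hc.inv_right
    rwa [mul_inv_rev, h.cls.inv_eq hd, h.cls.inv_eq he] at this)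
  exact hde (h.eqv d hd y hy e he h1.symm h2)

omit h in
open Classical in
/-- The members moving `B` to `B'`. -/
noncomputable def sw (D : Set G) (B B' : Finset G) : Finset G :=
  (Ds D).filter (fun d => cj d B = B')

omit h in
theorem mem_sw {B B' : Finset G} {d : G} : d ∈ sw D B B' ↔ d ∈ D ∧ cj d B = B' := by
  simp [sw, mem_Ds]

theorem cj_invol {d : G} (hd : d ∈ D) {B B' : Finset G} (e : cj d B = B') : cj d B' = B := by
  rw [← e, ← cj_mul, h.cls.sq d hd, cj_one]

theorem sw_not_comm {d a : G} (hd : d ∈ D) (ha : a ∈ D) {B' : Finset G} (hne : B' ≠ blk D a)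
    (e : cj d (blk D a) = B') : ¬ Commute d a := fun hc => hne (by
  rw [← e, (h.fix_member_iff hd ha).mpr hc])

theorem card_sw {a b : G} (ha : a ∈ D) (hb : b ∈ D) (hab : ¬ Commute a b) :
    (sw D (blk D a) (blk D b)).card = (blk D b).card := by
  have hne : blk D b ≠ blk D a := fun e => hab ((h.blk_eq hb ha).mp e).symm
  refine card_bij (fun d _ => d * a * d) ?_ ?_ ?_
  · intro d hd
    obtain ⟨hd, e⟩ := mem_sw.mp hd
    rw [h.cj_blk, h.cls.inv_eq hd, h.blk_eq (h.cls.conjD hd ha) hb] at e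
    exact mem_blk.mpr ⟨h.cls.conjD hd ha, e.symm⟩
  · intro d hd e he hde
    obtain ⟨hd, hd'⟩ := mem_sw.mp hd
    obtain ⟨he, -⟩ := mem_sw.mp he
    exact h.cls.swap_unique hd he ha hde
      (h.cls.ne_of_not_comm hd (h.sw_not_comm hd ha hne hd'))
  · intro b' hb'
    obtain ⟨hb', hbb'⟩ := mem_blk.mp hb'
    obtain ⟨m, hm, -, hmb, -⟩ := h.cls.exists_mid ha hb'
      fun hc => hab (h.eqv a ha b' hb' b hb hc hbb'.symm)
    refine ⟨m, mem_sw.mpr ⟨hm, ?_⟩, hmb⟩
    rw [h.cj_blk, h.cls.inv_eq hm, hmb, h.blk_eq hb' hb]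
    exact hbb'.symm

theorem sw_conj {B B' : Finset G} {d e : G} (hd : d ∈ sw D B B') (he : e ∈ sw D B B') :
    d * e * d ∈ sw D B B' := by
  obtain ⟨hd, d1⟩ := mem_sw.mp hd
  obtain ⟨he, e1⟩ := mem_sw.mp he
  refine mem_sw.mpr ⟨h.cls.conjD hd he, ?_⟩
  rw [cj_mul, cj_mul, d1, h.cj_invol he e1, d1]

theorem sw_comm_eq {a b : G} (ha : a ∈ D) (hb : b ∈ D) (hab : ¬ Commute a b) {d e : G}
    (hd : d ∈ sw D (blk D a) (blk D b)) (he : e ∈ sw D (blk D a) (blk D b)) (hc : Commute d e) :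
    d = e := by
  obtain ⟨hd, d1⟩ := mem_sw.mp hd
  obtain ⟨he, e1⟩ := mem_sw.mp he
  by_contra hne
  have hv := h.closed d hd e he hc hne
  have hfix : cj (d * e) (blk D a) = blk D a := by rw [cj_mul, e1, h.cj_invol hd d1]
  have hva := (h.fix_member_iff hv ha).mp hfix
  have hdv : Commute d (d * e) := (Commute.refl d).mul_right hc
  have hda := h.eqv d hd _ hv a ha hdv hva
  refine hab ?_
  rw [(h.fix_member_iff hd ha).mpr hda] at d1
  exact (h.blk_eq ha hb).mp d1

/-- A normal-under-itself set of pairwise noncommuting members has prime power size. -/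
theorem card_pow {S : Finset G} (hS : ∀ d ∈ S, d ∈ D) (hne : S.Nonempty)
    (hsep : ∀ d ∈ S, ∀ e ∈ S, Commute d e → d = e) (hconj : ∀ d ∈ S, ∀ e ∈ S, d * e * d ∈ S) :
    ∃ k, S.card = p ^ k := by
  set R := Subgroup.closure (S : Set G) with hR
  set S' : Set R := {r | (r : G) ∈ S} with hS'
  have hnorm : R ≤ Subgroup.normalizer (S : Set G) := by
    rw [hR, Subgroup.closure_le]
    intro d hd n
    have hdi := h.cls.inv_eq (hS d hd)
    have hdd := h.cls.sq d (hS d hd)
    constructor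
    · intro hn
      rw [hdi]; exact hconj d hd n hn
    · intro hn
      rw [hdi] at hn
      have := hconj d hd _ hn
      simpa [← mul_assoc, hdd, mul_assoc _ d d] using this
  have himg : Subtype.val '' S' = (S : Set G) := by
    ext g
    exact ⟨fun ⟨r, hr, e⟩ => e ▸ hr, fun hg => ⟨⟨g, Subgroup.subset_closure hg⟩, hg, rfl⟩⟩
  obtain ⟨k, hk⟩ := class_card (S := S') h.cls.prime (by have := h.cls.five; omega)
    (by obtain ⟨d, hd⟩ := hne; exact ⟨⟨d, Subgroup.subset_closure hd⟩, hd⟩)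
    (fun d hd => Subtype.ext (h.cls.sq _ (hS _ hd)))
    (fun d hd e => h.cls.ne _ (hS _ hd) (congrArg Subtype.val e))
    (fun g d hd => (hnorm g.2 (d : G)).mp hd)
    Subgroup.closure_closure_coe_preimage
    (fun d hd e he => by
      apply Subtype.ext
      show ((d : G) * (e : G)) ^ p = 1
      rcases h.cls.ord _ (hS _ hd) _ (hS _ he) with hc | hc
      · rw [hsep _ hd _ he hc, h.cls.sq _ (hS _ he), one_pow]
      · exact hc)
  exact ⟨k, by rw [← hk, ← Set.ncard_coe_finset, ← himg, Set.ncard_image_of_injective _ Subtype.val_injective]⟩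

theorem card_blk {a b : G} (ha : a ∈ D) (hb : b ∈ D) : (blk D a).card = (blk D b).card := by
  obtain ⟨g, rfl⟩ := h.trans a ha b hb
  rw [← h.cj_blk, cj, card_image_of_injective]
  exact fun u v e => mul_left_cancel (mul_right_cancel e)

theorem exists_noncomm {a : G} (ha : a ∈ D) : ∃ b ∈ D, ¬ Commute a b := by
  obtain ⟨x, hx, y, hy, hxy⟩ := h.pair
  obtain ⟨g, rfl⟩ := h.trans x hx a ha
  refine ⟨_, h.cls.conj g y hy, fun hc => hxy ?_⟩
  have := hc.map (MulAut.conj g⁻¹).toMonoidHom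
  simpa [MulAut.conj_apply, mul_assoc] using this

/-- Every block has exactly `p` members. -/
theorem blk_card_eq {a : G} (ha : a ∈ D) : (blk D a).card = p := by
  obtain ⟨b, hb, hab⟩ := h.exists_noncomm ha
  obtain ⟨k, hk⟩ : ∃ k, (blk D b).card = p ^ k := by
    rw [← h.card_sw ha hb hab]
    refine h.card_pow (fun d hd => (mem_sw.mp hd).1) ?_
      (fun d hd e he => h.sw_comm_eq ha hb hab hd he) fun d hd e he => h.sw_conj hd he
    rw [← card_pos, h.card_sw ha hb hab, card_pos]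
    exact ⟨b, mem_blk.mpr ⟨hb, Commute.refl b⟩⟩
  rw [h.card_blk ha hb, hk]
  -- the block with the identity is an elementary abelian group
  let W : Subgroup G :=
    { carrier := {g | g = 1 ∨ g ∈ blk D b}
      one_mem' := Or.inl rfl
      mul_mem' := by
        rintro u v (rfl | hu) hv
        · simpa using hv
        rcases hv with rfl | hv
        · simpa using Or.inr hu
        obtain ⟨hu, hbu⟩ := mem_blk.mp hu
        obtain ⟨hv, hbv⟩ := mem_blk.mp hv
        by_cases huv : u = v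
        · subst huv; exact Or.inl (h.cls.sq u hu)
        · exact Or.inr (mem_blk.mpr
            ⟨h.closed u hu v hv (h.eqv u hu b hb v hv hbu.symm hbv) huv, hbu.mul_right hbv⟩)
      inv_mem' := by
        rintro u (rfl | hu)
        · exact Or.inl inv_one
        · exact Or.inr (by rw [h.cls.inv_eq (mem_blk.mp hu).1]; exact hu) }
  have h1 : (1 : G) ∉ blk D b := fun hm => h.cls.ne 1 (mem_blk.mp hm).1 rfl
  haveI : Fact (Nat.Prime 2) := ⟨Nat.prime_two⟩
  have hW : IsPGroup 2 W := fun g => ⟨1, Subtype.ext (by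
    show ((g : G)) ^ 2 ^ 1 = 1
    rcases g.2 with e | e
    · rw [e, one_pow]
    · rw [pow_one, pow_two, h.cls.sq _ (mem_blk.mp e).1])⟩
  obtain ⟨r, hr⟩ := IsPGroup.iff_card.mp hW
  have hWc : Nat.card W = p ^ k + 1 := by
    show Nat.card ({g | g = 1 ∨ g ∈ blk D b} : Set G) = _
    rw [Nat.card_coe_set_eq, show {g | g = 1 ∨ g ∈ blk D b} = ((insert 1 (blk D b) : Finset G) : Set G) by
      ext; simp, Set.ncard_coe_finset, card_insert_of_notMem h1, hk]
  have hk0 : k ≠ 0 := by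
    rintro rfl
    obtain ⟨c, hc, hcb, hbc⟩ := h.two b hb
    rw [pow_zero, card_eq_one] at hk
    obtain ⟨z, hz⟩ := hk
    have e1 : c ∈ blk D b := mem_blk.mpr ⟨hc, hbc⟩
    have e2 : b ∈ blk D b := mem_blk.mpr ⟨hb, Commute.refl b⟩
    rw [hz, mem_singleton] at e1 e2
    exact hcb (e1.trans e2.symm)
  rw [hr] at hWc
  -- `2 ^ r = p ^ k + 1` forces `k = 1`
  obtain ⟨j, hj⟩ := h.cls.odd
  have hr2 : 2 ≤ r := by
    by_contra hlt
    have : 2 ^ r ≤ 2 ^ 1 := Nat.pow_le_pow_right (by norm_num) (by omega)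
    have := h.cls.five
    have : p ≤ p ^ k := Nat.le_self_pow hk0 p
    omega
  have h4 : 4 ∣ p ^ k + 1 := hWc ▸ pow_dvd_pow 2 hr2
  rcases Nat.even_or_odd k with ⟨i, hi⟩ | hodd
  · exfalso
    obtain ⟨l, hl⟩ : Odd (p ^ i) := h.cls.odd.pow
    have : p ^ k + 1 = 4 * (l * l + l) + 2 := by rw [hi, pow_add, hl]; ring
    omega
  · have hgeom : (p + 1) * (∑ i ∈ range k, (-(p : ℤ)) ^ i) = (p : ℤ) ^ k + 1 := by
      have := mul_geom_sum (-(p : ℤ)) k
      rw [Odd.neg_pow hodd] at this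
      linear_combination -this
    set Sg := ∑ i ∈ range k, (-(p : ℤ)) ^ i with hSg
    have hodds : ¬ (2 : ℤ) ∣ Sg := by
      intro hdvd
      have h2 := (ZMod.intCast_zmod_eq_zero_iff_dvd Sg 2).mpr hdvd
      rw [hSg] at h2
      push_cast at h2
      have hp1 : (p : ZMod 2) = 1 := by rw [hj]; push_cast; rw [show (2 : ZMod 2) = 0 from rfl]; ring
      simp only [hp1, ZMod.neg_eq_self_mod_two, one_pow, sum_const, card_range, nsmul_eq_mul, mul_one] at h2
      obtain ⟨i, hi⟩ := hodd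
      rw [hi] at h2
      push_cast at h2
      rw [show (2 : ZMod 2) = 0 from rfl] at h2
      simp at h2
    have hdvd : Sg ∣ ((2 ^ r : ℕ) : ℤ) := ⟨(p + 1 : ℤ), by rw [hWc]; push_cast; rw [← hgeom]; ring⟩
    have h1' : Sg.natAbs ∣ 2 ^ r := Int.natCast_dvd_natCast.mp (Int.natAbs_dvd.mpr hdvd)
    obtain ⟨i, -, hi⟩ := (Nat.dvd_prime_pow Nat.prime_two).mp h1'
    have hi0 : i = 0 := by
      by_contra hi0
      exact hodds (Int.dvd_natAbs.mp (by rw [hi]; exact_mod_cast dvd_pow_self 2 hi0))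
    rw [hi0, pow_zero] at hi
    have hpk : (p : ℤ) ^ k + 1 ≤ (p : ℤ) + 1 := by
      rw [← hgeom]
      rcases Int.natAbs_eq Sg with e | e <;> rw [e, hi] <;> push_cast <;> omega
    by_contra hne
    have hk2 : 2 ≤ k := by
      rcases Nat.eq_or_lt_of_le (Nat.pos_of_ne_zero hk0) with e | e
      · exact absurd (by rw [← e, pow_one]) hne
      · exact e
    have : p ^ 2 ≤ p ^ k := Nat.pow_le_pow_right h.cls.prime.pos hk2
    have hlt : p < p ^ 2 := by nlinarith [h.cls.five]
    have : p ^ k ≤ p := by exact_mod_cast (by linarith : (p : ℤ) ^ k ≤ p)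
    omega

omit h in
theorem pow_inj_mod {s : G} (hs : orderOf s = p) {n m : ℕ} (hn : n < p) (hm : m < p)
    (e : s ^ n = s ^ m) : n = m :=
  pow_injOn_Iio_orderOf (by rw [hs]; exact hn) (by rw [hs]; exact hm) e

/-- The members exchanging two blocks are the reflections of one product. -/
theorem sw_line {a b : G} (ha : a ∈ D) (hb : b ∈ D) (hab : ¬ Commute a b) {d e : G}
    (hd : d ∈ sw D (blk D a) (blk D b)) (he : e ∈ sw D (blk D a) (blk D b)) (hne : d ≠ e)
    {f : G} (hf : f ∈ sw D (blk D a) (blk D b)) : ∃ n : ℕ, f = (d * e) ^ n * d := by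
  classical
  have hnc : ¬ Commute d e := fun hc => hne (h.sw_comm_eq ha hb hab hd he hc)
  have hdD := (mem_sw.mp hd).1
  have heD := (mem_sw.mp he).1
  have hord := h.cls.orderOf_prod hdD heD hnc
  have key : ∀ n : ℕ, (d * e) ^ n * d ∈ sw D (blk D a) (blk D b) := by
    intro n
    induction n using Nat.twoStepInduction with
    | zero => simpa using hd
    | one =>
      rw [pow_one]
      exact h.sw_conj hd he
    | more n ih1 _ =>
      have e1 : (d * e) ^ (n + 2) * d = d * (e * ((d * e) ^ n * d) * e) * d := by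
        rw [pow_add, (Commute.pow_pow_self (d * e) n 2).eq, pow_two]
        have hde : (d * e) * (d * e) ^ n = (d * e) ^ n * (d * e) := ((Commute.refl _).pow_right n).eq
        calc d * e * (d * e) * (d * e) ^ n * d = d * e * ((d * e) * (d * e) ^ n) * d := by
              simp only [mul_assoc]
          _ = d * e * ((d * e) ^ n * (d * e)) * d := by rw [hde]
          _ = d * (e * ((d * e) ^ n * d) * e) * d := by simp only [mul_assoc]
      rw [e1]
      exact h.sw_conj hd (h.sw_conj he ih1)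
  have himg : (range p).image (fun n => (d * e) ^ n * d) = sw D (blk D a) (blk D b) := by
    refine eq_of_subset_of_card_le ?_ ?_
    · intro g hg
      obtain ⟨n, -, rfl⟩ := mem_image.mp hg
      exact key n
    · rw [h.card_sw ha hb hab, h.blk_card_eq hb, card_image_of_injOn, card_range]
      intro n hn m hm e'
      exact pow_inj_mod hord (mem_range.mp hn) (mem_range.mp hm) (mul_right_cancel e')
  rw [← himg] at hf
  obtain ⟨n, -, rfl⟩ := mem_image.mp hf
  exact ⟨n, rfl⟩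

theorem sw_prod_mem {a b : G} (ha : a ∈ D) (hb : b ∈ D) (hab : ¬ Commute a b) {d e : G}
    (hd : d ∈ sw D (blk D a) (blk D b)) (he : e ∈ sw D (blk D a) (blk D b)) (hne : d ≠ e)
    {f g : G} (hf : f ∈ sw D (blk D a) (blk D b)) (hg : g ∈ sw D (blk D a) (blk D b)) :
    ∃ n : ℕ, f * g = (d * e) ^ n := by
  obtain ⟨i, rfl⟩ := h.sw_line ha hb hab hd he hne hf
  obtain ⟨j, rfl⟩ := h.sw_line ha hb hab hd he hne hg
  have hdD := (mem_sw.mp hd).1
  have heD := (mem_sw.mp he).1
  have hnc : ¬ Commute d e := fun hc => hne (h.sw_comm_eq ha hb hab hd he hc)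
  refine ⟨i + (p - 1) * j, ?_⟩
  have hinv : ((d * e) ^ j)⁻¹ = (d * e) ^ ((p - 1) * j) := by
    refine inv_eq_of_mul_eq_one_right ?_
    rw [← pow_add, show j + (p - 1) * j = p * j by
      obtain ⟨p', hp'⟩ := Nat.exists_eq_succ_of_ne_zero h.cls.prime.ne_zero
      subst hp'; simp [Nat.succ_mul]; ring, pow_mul, h.cls.pow_prod hdD heD hnc, one_pow]
  rw [pow_add, ← hinv, ← h.cls.conj_pow_prod hdD heD j]
  simp only [mul_assoc]

omit h in
theorem conj_eq_of_pow {s t : G} (hp : p.Prime) (hs : s ^ p = 1) (ht : orderOf t = p) {k : ℕ}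
    (hk : s * t * s⁻¹ = t ^ k) : Commute s t := by
  haveI := Fact.mk hp
  have key : ∀ n : ℕ, s ^ n * t * (s ^ n)⁻¹ = t ^ k ^ n := by
    intro n
    induction n with
    | zero => simp
    | succ n ih =>
      calc s ^ (n + 1) * t * (s ^ (n + 1))⁻¹ = s * (s ^ n * t * (s ^ n)⁻¹) * s⁻¹ := by
            rw [pow_succ', mul_inv_rev]; simp only [mul_assoc]
        _ = t ^ k ^ (n + 1) := by rw [ih, ← conj_pow, hk, ← pow_mul, ← pow_succ']
  have h1 := key p
  rw [hs, one_mul, inv_one, mul_one] at h1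
  have h2 : k ^ p ≡ 1 [MOD p] := by
    have := pow_eq_pow_iff_modEq.mp (show t ^ 1 = t ^ k ^ p by rw [pow_one]; exact h1)
    rw [ht] at this
    exact this.symm
  have h3 : (k : ZMod p) = 1 := by
    have := (ZMod.natCast_eq_natCast_iff _ _ _).mpr h2
    push_cast at this
    rwa [ZMod.pow_card] at this
  have h4 : k ≡ 1 [MOD p] := (ZMod.natCast_eq_natCast_iff _ _ _).mp (by push_cast; exact h3)
  have h5 : t ^ k = t := by
    conv_rhs => rw [← pow_one t]
    exact pow_eq_pow_iff_modEq.mpr (by rw [ht]; exact h4)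
  rw [h5] at hk
  exact mul_inv_eq_iff_eq_mul.mp hk

/-- An element of order `p` moving a member fixes every member of its block if it fixes one. -/
theorem orbit_eq {d e c : G} (hd : d ∈ D) (he : e ∈ D) (hde : ¬ Commute d e) (hc : c ∈ D)
    (hfix : cj (d * e) (blk D c) = blk D c) {c' : G} (hc' : c' ∈ blk D c) :
    ∃ n : ℕ, c' = (d * e) ^ n * c * ((d * e) ^ n)⁻¹ := by
  set s := d * e with hs
  have hord : orderOf s = p := h.cls.orderOf_prod hd he hde
  haveI := Fact.mk h.cls.prime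
  have hmem : ∀ n : ℕ, s ^ n * c * (s ^ n)⁻¹ ∈ blk D c := by
    intro n
    induction n with
    | zero => simpa using mem_blk.mpr ⟨hc, Commute.refl c⟩
    | succ n ih =>
      have := mem_cj (g := s) ih
      rw [hfix] at this
      convert this using 1
      rw [pow_succ', mul_inv_rev]; simp only [mul_assoc]
  have himg : (range p).image (fun n => s ^ n * c * (s ^ n)⁻¹) = blk D c := by
    refine eq_of_subset_of_card_le ?_ ?_
    · intro g hg
      obtain ⟨n, -, rfl⟩ := mem_image.mp hg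
      exact hmem n
    · rw [h.blk_card_eq hc, card_image_of_injOn, card_range]
      have key : ∀ n m : ℕ, n ≤ m → m < p → s ^ n * c * (s ^ n)⁻¹ = s ^ m * c * (s ^ m)⁻¹ → n = m := by
        intro n m hnm hmp hnm'
        by_contra hne
        have hcomm : Commute c (s ^ (m - n)) := by
          show c * s ^ (m - n) = s ^ (m - n) * c
          have hsm : s ^ m = s ^ n * s ^ (m - n) := by rw [← pow_add]; congr 1; omega
          rw [hsm] at hnm'
          have h2 : c = s ^ (m - n) * c * (s ^ (m - n))⁻¹ := by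
            have h3 : s ^ n * c * (s ^ n)⁻¹ = s ^ n * (s ^ (m - n) * c * (s ^ (m - n))⁻¹) * (s ^ n)⁻¹ := by
              rw [hnm', mul_inv_rev]; simp only [mul_assoc]
            exact mul_left_cancel (mul_right_cancel h3)
          exact eq_mul_inv_iff_mul_eq.mp h2
        obtain ⟨i, hi⟩ : ∃ i : ℕ, (s ^ (m - n)) ^ i = s := by
          obtain ⟨i, hi⟩ := exists_pow_eq_self_of_coprime (x := s) (n := m - n) (by
            rw [hord]
            exact (Nat.coprime_comm.mp ((Nat.Prime.coprime_iff_not_dvd h.cls.prime).mpr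
              fun hdvd => absurd (Nat.le_of_dvd (by omega) hdvd) (by omega))))
          exact ⟨i, hi⟩
        exact h.no_fix hd he hde hc (show Commute c s by rw [← hi]; exact hcomm.pow_right i)
      intro n hn m hm hnm
      rcases le_total n m with hle | hle
      · exact key n m hle (mem_range.mp hm) hnm
      · exact (key m n hle (mem_range.mp hn) hnm.symm).symm
  rw [← himg] at hc'
  obtain ⟨n, -, rfl⟩ := mem_image.mp hc'
  exact ⟨n, rfl⟩

theorem fix_cj {g k : G} (hgk : Commute g k) {B : Finset G} (hB : cj g B = B) :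
    cj g (cj k B) = cj k B := by
  rw [← cj_mul, hgk.eq, cj_mul, hB]

/-- The members exchanging two blocks fixed by a product invert it. -/
theorem sw_inverts {d e c₁ c₂ : G} (hd : d ∈ D) (he : e ∈ D) (hde : ¬ Commute d e) (h1 : c₁ ∈ D)
    (h2 : c₂ ∈ D) (h12 : ¬ Commute c₁ c₂) (f1 : cj (d * e) (blk D c₁) = blk D c₁)
    (f2 : cj (d * e) (blk D c₂) = blk D c₂) {f : G} (hf : f ∈ sw D (blk D c₁) (blk D c₂)) :
    f * (d * e) * f = (d * e)⁻¹ := by
  set s := d * e with hs
  have hord : orderOf s = p := h.cls.orderOf_prod hd he hde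
  have hsp : s ^ p = 1 := hord ▸ pow_orderOf_eq_one s
  haveI := Fact.mk h.cls.prime
  obtain ⟨g, hg, hgf⟩ : ∃ g ∈ sw D (blk D c₁) (blk D c₂), g ≠ f := by
    by_contra hall
    push Not at hall
    have : (sw D (blk D c₁) (blk D c₂)).card ≤ 1 :=
      card_le_one.mpr fun u hu v hv => (hall u hu).trans (hall v hv).symm
    rw [h.card_sw h1 h2 h12, h.blk_card_eq h2] at this
    have := h.cls.five; omega
  have hfD := (mem_sw.mp hf).1
  have hgD := (mem_sw.mp hg).1
  have hfg : ¬ Commute f g := fun hc => hgf (h.sw_comm_eq h1 h2 h12 hf hg hc).symm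
  set t := f * g with ht
  have htord : orderOf t = p := h.cls.orderOf_prod hfD hgD hfg
  have htp : t ^ p = 1 := htord ▸ pow_orderOf_eq_one t
  have hmove : ∀ u ∈ sw D (blk D c₁) (blk D c₂), s * u * s⁻¹ ∈ sw D (blk D c₁) (blk D c₂) := by
    intro u hu
    obtain ⟨hu, e1⟩ := mem_sw.mp hu
    refine mem_sw.mpr ⟨h.cls.conj s u hu, ?_⟩
    have hi : cj s⁻¹ (blk D c₁) = blk D c₁ := by
      conv_lhs => rw [← f1]
      rw [← cj_mul, inv_mul_cancel, cj_one]
    rw [cj_mul, cj_mul, hi, e1, f2]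
  obtain ⟨k, hk⟩ := h.sw_prod_mem h1 h2 h12 hf hg (Ne.symm hgf) (hmove f hf) (hmove g hg)
  have hst : Commute s t := conj_eq_of_pow h.cls.prime hsp htord (k := k) (by
    rw [← hk, ht]; group)
  have ft1 : cj t (blk D c₁) = blk D c₁ := by
    rw [ht, cj_mul, (mem_sw.mp hg).2, h.cj_invol hfD (mem_sw.mp hf).2]
  have ft2 : cj t (blk D c₂) = blk D c₂ := by
    rw [ht, cj_mul, h.cj_invol hgD (mem_sw.mp hg).2, (mem_sw.mp hf).2]
  obtain ⟨n, hn⟩ := h.orbit_eq hd he hde h1 f1 (c' := t * c₁ * t⁻¹) (by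
    have := mem_cj (g := t) (mem_blk.mpr ⟨h1, Commute.refl c₁⟩ : c₁ ∈ blk D c₁)
    rwa [ft1] at this)
  -- the correction fixing `c₁`
  set u := (s ^ n)⁻¹ * t with hu
  have huc : Commute u c₁ := by
    show (s ^ n)⁻¹ * t * c₁ = c₁ * ((s ^ n)⁻¹ * t)
    have h3 : t * c₁ = s ^ n * c₁ * (s ^ n)⁻¹ * t := mul_inv_eq_iff_eq_mul.mp hn
    rw [mul_assoc, h3]; simp only [← mul_assoc, inv_mul_cancel, one_mul]
  have hus : Commute u s := ((Commute.refl s).pow_left n).inv_left.mul_left hst.symm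
  have hall : ∀ c ∈ D, Commute c₁ c → Commute u c := by
    intro c hc hcc
    obtain ⟨m, rfl⟩ := h.orbit_eq hd he hde h1 f1 (mem_blk.mpr ⟨hc, hcc⟩)
    exact ((hus.pow_right m).mul_right huc).mul_right (hus.pow_right m).inv_right
  have hup : u ^ p = 1 := by
    rw [hu, ((hst.pow_left n).inv_left).mul_pow, inv_pow, ← pow_mul, mul_comm, pow_mul, hsp,
      one_pow, inv_one, one_mul, htp]
  have hspow : ∀ m : ℕ, cj (s ^ m) (blk D c₂) = blk D c₂ := by
    intro m
    induction m with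
    | zero => rw [pow_zero, cj_one]
    | succ m ih => rw [pow_succ', cj_mul, ih, f2]
  have fu2 : cj u (blk D c₂) = blk D c₂ := by
    rw [hu, cj_mul, ft2]
    conv_lhs => rw [← hspow n]
    rw [← cj_mul, inv_mul_cancel, cj_one]
  -- the pair of `c₂` and its image under `c₁`
  set c₃ := c₁ * c₂ * c₁ with hc3
  have h3D : c₃ ∈ D := h.cls.conjD h1 h2
  have h23 : ¬ Commute c₂ c₃ := h.cls.not_comm_conj' h1 h2 h12
  have hb3 : cj c₁ (blk D c₂) = blk D c₃ := by rw [h.cj_blk, h.cls.inv_eq h1]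
  have hc1sw : c₁ ∈ sw D (blk D c₂) (blk D c₃) := mem_sw.mpr ⟨h1, hb3⟩
  have fu3 : cj u (blk D c₃) = blk D c₃ := by
    rw [← hb3]
    exact h.fix_cj huc fu2
  obtain ⟨f', hf', hf'ne⟩ : ∃ f' ∈ sw D (blk D c₂) (blk D c₃), f' ≠ c₁ := by
    by_contra hall'
    push Not at hall'
    have : (sw D (blk D c₂) (blk D c₃)).card ≤ 1 :=
      card_le_one.mpr fun v hv w hw => (hall' v hv).trans (hall' w hw).symm
    rw [h.card_sw h2 h3D h23, h.blk_card_eq h3D] at this
    have := h.cls.five; omega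
  have hf'D := (mem_sw.mp hf').1
  have hf'c : ¬ Commute c₁ f' := fun hc => hf'ne (h.sw_comm_eq h2 h3D h23 hc1sw hf' hc).symm
  have hmove' : u * f' * u⁻¹ ∈ sw D (blk D c₂) (blk D c₃) := by
    refine mem_sw.mpr ⟨h.cls.conj u f' hf'D, ?_⟩
    have hi : cj u⁻¹ (blk D c₂) = blk D c₂ := by
      conv_lhs => rw [← fu2]
      rw [← cj_mul, inv_mul_cancel, cj_one]
    rw [cj_mul, cj_mul, hi, (mem_sw.mp hf').2, fu3]
  obtain ⟨j, hj⟩ := h.sw_prod_mem h2 h3D h23 hc1sw hf' (Ne.symm hf'ne) hc1sw hmove'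
  have hcu : Commute u (c₁ * f') := conj_eq_of_pow h.cls.prime hup
    (h.cls.orderOf_prod h1 hf'D hf'c) (k := j) (by
      rw [← hj, ← mul_assoc u c₁ f', huc.eq]; simp only [mul_assoc])
  have huf : Commute u f' := by
    have := huc.mul_right hcu
    rwa [← mul_assoc, h.cls.sq c₁ h1, one_mul] at this
  have hu1 : u = 1 := h.cent u c₁ h1 f' hf'D hall hf'c huf
  have htn : t = s ^ n := by
    have := inv_mul_eq_one.mp hu1
    exact this.symm
  -- so `s` is a power of `t`
  have hn0 : ¬ p ∣ n := by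
    rintro ⟨i, rfl⟩
    rw [pow_mul, hsp, one_pow] at htn
    rw [htn, orderOf_one] at htord
    exact h.cls.prime.one_lt.ne htord
  obtain ⟨i, hi⟩ := exists_pow_eq_self_of_coprime (x := s) (n := n) (by
    rw [hord]; exact (Nat.coprime_comm.mp ((Nat.Prime.coprime_iff_not_dvd h.cls.prime).mpr hn0)))
  rw [← hi, ← htn, ht, h.cls.conj_pow_prod hfD hgD]

omit h in
open Classical in
/-- Members inverting `s`. -/
noncomputable def inv' (D : Set G) (s : G) : Finset G := (Ds D).filter (fun d => d * s * d = s⁻¹)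

omit h in
open Classical in
/-- Blocks fixed by `s`. -/
noncomputable def fixB (D : Set G) (s : G) : Finset (Finset G) := (Bl D).filter (fun B => cj s B = B)

theorem conj_inv_eq {w : G} (hw : w ∈ D) (g : G) : (w * g * w)⁻¹ = w * g⁻¹ * w := by
  rw [mul_inv_rev, mul_inv_rev, h.cls.inv_eq hw, mul_assoc]

theorem inv_comm_eq {d e : G} (hd : d ∈ D) (he : e ∈ D) (hde : ¬ Commute d e) {u v : G}
    (hu : u ∈ inv' D (d * e)) (hv : v ∈ inv' D (d * e)) (hc : Commute u v) : u = v := by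
  simp only [inv', mem_filter, mem_Ds] at hu hv
  by_contra hne
  have hw := h.closed u hu.1 v hv.1 hc hne
  refine h.no_fix hd he hde hw ?_
  set s := d * e
  have h1 : u * v * s * (v * u) = s := by
    calc u * v * s * (v * u) = u * (v * s * v) * u := by simp only [mul_assoc]
      _ = (u * s * u)⁻¹ := by
        rw [h.conj_inv_eq hu.1, hv.2]
      _ = s := by rw [hu.2, inv_inv]
  have hvu : v * u = (u * v)⁻¹ := by rw [mul_inv_rev, h.cls.inv_eq hu.1, h.cls.inv_eq hv.1]
  rw [hvu] at h1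
  exact mul_inv_eq_iff_eq_mul.mp h1

/-- An inverting member moves every fixed block. -/
theorem inv_moves {d e u c : G} (hd : d ∈ D) (he : e ∈ D) (hde : ¬ Commute d e)
    (hu : u ∈ inv' D (d * e)) (hc : c ∈ D) (hfix : cj (d * e) (blk D c) = blk D c) :
    ¬ Commute u c := by
  intro huc
  have hu' := hu
  simp only [inv', mem_filter, mem_Ds] at hu'
  set s := d * e
  have hmem : s * u * s⁻¹ ∈ inv' D s := by
    simp only [inv', mem_filter, mem_Ds]
    refine ⟨h.cls.conj s u hu'.1, ?_⟩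
    calc s * u * s⁻¹ * s * (s * u * s⁻¹) = s * (u * s * u) * s⁻¹ := by group
      _ = s⁻¹ := by rw [hu'.2]; group
  have hblk : blk D u = blk D c := (h.blk_eq hu'.1 hc).mpr huc
  have hcm : Commute (s * u * s⁻¹) u := (h.cj_fix_iff hu'.1 s).mp (by rw [hblk]; exact hfix)
  have := h.inv_comm_eq hd he hde hmem hu hcm
  exact h.no_fix hd he hde hu'.1 (mul_inv_eq_iff_eq_mul.mp this).symm

theorem fix_mod (s : G) (hsp : s ^ p = 1) : (Bl D).card ≡ (fixB D s).card [MOD p] := by
  classical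
  haveI := Fact.mk h.cls.prime
  let f : Function.End {B // B ∈ Bl D} := fun B => ⟨cj s B.1, h.cj_mem_Bl s B.2⟩
  have hpow : ∀ n : ℕ, ∀ B, ((f ^ n) B).1 = cj (s ^ n) B.1 := by
    intro n
    induction n with
    | zero => intro B; rw [pow_zero f, pow_zero s, cj_one]; rfl
    | succ n ih =>
      intro B
      rw [pow_succ' f, pow_succ' s, cj_mul, ← ih]
      rfl
  have hf : f ^ p ^ 1 = 1 := funext fun B => Subtype.ext (by rw [pow_one, hpow, hsp, cj_one]; rfl)
  have := Equiv.Perm.card_fixedPoints_modEq hf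
  rw [Fintype.card_coe] at this
  have e : Fintype.card f.fixedPoints = (fixB D s).card := by
    rw [← Fintype.card_coe (fixB D s)]
    refine Fintype.card_congr
      { toFun := fun B => ⟨B.1.1, mem_filter.mpr ⟨B.1.2, congrArg Subtype.val B.2⟩⟩
        invFun := fun B => ⟨⟨B.1, (mem_filter.mp B.2).1⟩, Subtype.ext (mem_filter.mp B.2).2⟩
        left_inv := fun _ => rfl
        right_inv := fun _ => rfl }
  rwa [e] at this

omit h in
theorem mem_fixB {s : G} {B : Finset G} : B ∈ fixB D s ↔ B ∈ Bl D ∧ cj s B = B := by simp [fixB]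

omit h in
theorem mem_inv' {s u : G} : u ∈ inv' D s ↔ u ∈ D ∧ u * s * u = s⁻¹ := by simp [inv', mem_Ds]

/-- The number of fixed blocks of a product is one more than a power of `p`, or zero. -/
theorem fix_count {d e : G} (hd : d ∈ D) (he : e ∈ D) (hde : ¬ Commute d e)
    (hne : (fixB D (d * e)).Nonempty) : ∃ k, p * ((fixB D (d * e)).card - 1) = p ^ k := by
  classical
  obtain ⟨B, hB⟩ := hne
  have hB' := mem_fixB.mp hB
  obtain ⟨c, hc, rfl⟩ := mem_Bl.mp hB'.1
  set s := d * e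
  have hdI : d ∈ inv' D s := mem_inv'.mpr ⟨hd, h.cls.inverts hd he⟩
  have hU : (inv' D s).card = p * ((fixB D s).card - 1) := by
    rw [← card_erase_of_mem hB, mul_comm]
    rw [card_eq_sum_card_fiberwise (f := fun u => cj u (blk D c)) (t := (fixB D s).erase (blk D c))]
    · refine sum_const_nat fun B' hB'' => ?_
      obtain ⟨hne, hfix'⟩ := mem_erase.mp hB''
      obtain ⟨hBl, hcj⟩ := mem_fixB.mp hfix'
      obtain ⟨c', hc', rfl⟩ := mem_Bl.mp hBl
      have hcc : ¬ Commute c c' := fun hcm => hne ((h.blk_eq hc' hc).mpr hcm.symm)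
      rw [← h.blk_card_eq hc', ← h.card_sw hc hc' hcc]
      refine congrArg Finset.card (ext fun u => ?_)
      simp only [mem_filter, mem_inv', mem_sw]
      exact ⟨fun ⟨⟨hu, _⟩, e'⟩ => ⟨hu, e'⟩,
        fun ⟨hu, e'⟩ => ⟨⟨hu, h.sw_inverts hd he hde hc hc' hcc hB'.2 hcj (mem_sw.mpr ⟨hu, e'⟩)⟩, e'⟩⟩
    · intro u hu
      rw [Finset.mem_coe] at hu ⊢
      have hu' := mem_inv'.mp hu
      refine mem_erase.mpr ⟨fun e' => h.inv_moves hd he hde hu hc hB'.2
        ((h.fix_member_iff hu'.1 hc).mp e'), mem_fixB.mpr ⟨h.cj_mem_Bl u hB'.1, ?_⟩⟩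
      have hsu : s * u = u * s⁻¹ := by
        rw [← hu'.2, ← mul_assoc, ← mul_assoc, h.cls.sq u hu'.1, one_mul]
      have hsinv : cj s⁻¹ (blk D c) = blk D c := by
        conv_lhs => rw [← hB'.2]
        rw [← cj_mul, inv_mul_cancel, cj_one]
      rw [← cj_mul, hsu, cj_mul, hsinv]
  rw [← hU]
  refine h.card_pow (fun u hu => (mem_inv'.mp hu).1) ⟨d, hdI⟩
    (fun u hu v hv => h.inv_comm_eq hd he hde hu hv) fun u hu v hv => mem_inv'.mpr ?_
  obtain ⟨hu, eu⟩ := mem_inv'.mp hu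
  obtain ⟨hv, ev⟩ := mem_inv'.mp hv
  refine ⟨h.cls.conjD hu hv, ?_⟩
  calc u * v * u * s * (u * v * u) = u * (v * (u * s * u) * v) * u := by simp only [mul_assoc]
    _ = u * (v * s * v)⁻¹ * u := by rw [eu, h.conj_inv_eq hv]
    _ = s⁻¹ := by rw [ev, inv_inv, eu]

theorem card_Ds : (Ds D).card = p * (Bl D).card := by
  rw [mul_comm, card_eq_sum_card_fiberwise (f := blk D) (t := Bl D)]
  · refine sum_const_nat fun B hB => ?_
    obtain ⟨a, ha, rfl⟩ := mem_Bl.mp hB
    rw [← h.blk_card_eq ha]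
    refine congrArg Finset.card (ext fun b => ?_)
    simp only [mem_filter, mem_Ds, mem_blk]
    exact ⟨fun ⟨hb, e⟩ => ⟨hb, ((h.blk_eq hb ha).mp e).symm⟩,
      fun ⟨hb, e⟩ => ⟨hb, (h.blk_eq hb ha).mpr e.symm⟩⟩
  · intro b hb
    exact mem_Bl.mpr ⟨b, mem_Ds.mp hb, rfl⟩

/-- Some product fixes no block. -/
theorem exists_free : ∃ d ∈ D, ∃ e ∈ D, ¬ Commute d e ∧ fixB D (d * e) = ∅ := by
  classical
  by_contra hall
  push Not at hall
  let P := (Ds D ×ˢ Ds D).filter fun z => ¬ Commute z.1 z.2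
  let T := ((Bl D).offDiag).sigma fun q => (sw D q.1 q.2).offDiag
  have hchoose : ∀ z : G × G, z ∈ P → ∃ B B' : Finset G,
      (B, B') ∈ (Bl D).offDiag ∧ z ∈ (sw D B B').offDiag := by
    rintro ⟨d, e⟩ hz
    simp only [P, mem_filter, mem_product, mem_Ds] at hz
    obtain ⟨⟨hd, he⟩, hde⟩ := hz
    obtain ⟨B, hB⟩ := hall d hd e he hde
    obtain ⟨hBl, hs⟩ := mem_fixB.mp hB
    have hdB : cj d B ≠ B := by
      intro e'
      obtain ⟨c, hc, rfl⟩ := mem_Bl.mp hBl
      exact h.inv_moves hd he hde (mem_inv'.mpr ⟨hd, h.cls.inverts hd he⟩) hc hs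
        ((h.fix_member_iff hd hc).mp e')
    have heB : cj e B = cj d B := by
      rw [cj_mul] at hs
      have := congrArg (cj d) hs
      rwa [← cj_mul d d, h.cls.sq d hd, cj_one] at this
    refine ⟨B, cj d B, mem_offDiag.mpr ⟨hBl, h.cj_mem_Bl d hBl, Ne.symm hdB⟩,
      mem_offDiag.mpr ⟨mem_sw.mpr ⟨hd, rfl⟩, mem_sw.mpr ⟨he, heB⟩, fun e' => hde (by rw [show d = e from e'])⟩⟩
  have hle : P.card ≤ T.card := by
    refine card_le_card_of_injOn
      (fun z => if hz : z ∈ P then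
        ⟨((hchoose z hz).choose, (hchoose z hz).choose_spec.choose), z⟩ else ⟨(∅, ∅), z⟩) ?_ ?_
    · intro z hz
      rw [Finset.mem_coe] at hz ⊢
      simp only [dif_pos hz]
      exact mem_sigma.mpr (hchoose z hz).choose_spec.choose_spec
    · intro z hz w hw e'
      simp only [dif_pos (Finset.mem_coe.mp hz), dif_pos (Finset.mem_coe.mp hw)] at e'
      simp only [Sigma.mk.injEq, heq_eq_eq] at e'
      exact e'.2
  have hP : P.card = (Ds D).card * ((Ds D).card - p) := by
    have h1 : P.card = ∑ d ∈ Ds D, ((Ds D).filter fun e => ¬ Commute d e).card := by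
      simp only [P, card_filter, sum_product]
    rw [h1]
    refine sum_const_nat fun d hd => ?_
    have h2 := card_filter_add_card_filter_not (s := Ds D) (fun e => Commute d e)
    have h3 : ((Ds D).filter fun e => Commute d e).card = p := h.blk_card_eq (mem_Ds.mp hd)
    omega
  have hT : T.card = ((Bl D).card * (Bl D).card - (Bl D).card) * (p * p - p) := by
    rw [card_sigma, ← offDiag_card]
    refine sum_const_nat ?_
    rintro ⟨B, B'⟩ hq
    obtain ⟨hB, hB', hne⟩ := mem_offDiag.mp hq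
    obtain ⟨a, ha, rfl⟩ := mem_Bl.mp hB
    obtain ⟨b, hb, rfl⟩ := mem_Bl.mp hB'
    rw [offDiag_card, h.card_sw ha hb (fun hc => hne ((h.blk_eq ha hb).mpr hc)), h.blk_card_eq hb]
  rw [hP, hT, h.card_Ds] at hle
  obtain ⟨x, hx, y, hy, hxy⟩ := h.pair
  have hb2 : 2 ≤ (Bl D).card := one_lt_card.mpr
    ⟨_, mem_Bl.mpr ⟨x, hx, rfl⟩, _, mem_Bl.mpr ⟨y, hy, rfl⟩, fun e => hxy ((h.blk_eq hx hy).mp e)⟩
  obtain ⟨b', hb'⟩ : ∃ b', (Bl D).card = b' + 2 := ⟨_, (Nat.sub_add_cancel hb2).symm⟩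
  obtain ⟨p', hp'⟩ : ∃ p', p = p' + 1 := ⟨p - 1, by have := h.cls.five; omega⟩
  rw [hb', hp'] at hle
  have e1 : (b' + 2) * (b' + 2) - (b' + 2) = (b' + 2) * (b' + 1) := by
    rw [Nat.sub_eq_iff_eq_add (Nat.le_mul_self _)]; ring
  have e2 : (p' + 1) * (p' + 1) - (p' + 1) = (p' + 1) * p' := by
    rw [Nat.sub_eq_iff_eq_add (Nat.le_mul_self _)]; ring
  have e3 : (p' + 1) * (b' + 2) - (p' + 1) = (p' + 1) * (b' + 1) := by
    rw [Nat.sub_eq_iff_eq_add (Nat.le_mul_of_pos_right _ (by omega))]; ring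
  rw [e1, e2, e3] at hle
  nlinarith [Nat.zero_le (b' * p'), Nat.zero_le b', Nat.zero_le p']

/-- The configuration does not exist. -/
theorem absurd' : False := by
  classical
  haveI := Fact.mk h.cls.prime
  obtain ⟨d, hd, e, he, hde, h0⟩ := h.exists_free
  have m0 := h.fix_mod (d * e) (h.cls.pow_prod hd he hde)
  rw [h0, card_empty] at m0
  obtain ⟨x, hx, y, hy, hxy⟩ := h.pair
  have hc := h.card_sw hx hy hxy
  have hlt : 1 < (sw D (blk D x) (blk D y)).card := by
    rw [hc, h.blk_card_eq hy]; have := h.cls.five; omega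
  obtain ⟨f, hf, g, hg, hfg⟩ := one_lt_card.mp hlt
  have hfD := (mem_sw.mp hf).1
  have hgD := (mem_sw.mp hg).1
  have hnc : ¬ Commute f g := fun hcm => hfg (h.sw_comm_eq hx hy hxy hf hg hcm)
  have hxF : blk D x ∈ fixB D (f * g) := mem_fixB.mpr ⟨mem_Bl.mpr ⟨x, hx, rfl⟩, by
    rw [cj_mul, (mem_sw.mp hg).2, h.cj_invol hfD (mem_sw.mp hf).2]⟩
  have hyF : blk D y ∈ fixB D (f * g) := mem_fixB.mpr ⟨mem_Bl.mpr ⟨y, hy, rfl⟩, by
    rw [cj_mul, h.cj_invol hgD (mem_sw.mp hg).2, (mem_sw.mp hf).2]⟩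
  have h2 : 2 ≤ (fixB D (f * g)).card :=
    one_lt_card.mpr ⟨_, hxF, _, hyF, fun e' => hxy ((h.blk_eq hx hy).mp e')⟩
  have m1 := m0.symm.trans (h.fix_mod (f * g) (h.cls.pow_prod hfD hgD hnc))
  obtain ⟨k, hk⟩ := h.fix_count hfD hgD hnc ⟨_, hxF⟩
  have hdvd : p ∣ (fixB D (f * g)).card := Nat.modEq_zero_iff_dvd.mp m1.symm
  rcases Nat.eq_zero_or_pos k with rfl | hk1
  · rw [pow_zero] at hk
    have := Nat.eq_one_of_mul_eq_one_right hk
    exact h.cls.prime.one_lt.ne' this
  obtain ⟨k', rfl⟩ : ∃ k', k = k' + 1 := ⟨k - 1, by omega⟩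
  rw [pow_succ', Nat.mul_left_cancel_iff h.cls.prime.pos] at hk
  rcases Nat.eq_zero_or_pos k' with rfl | hk'
  · rw [pow_zero] at hk
    have : p ≤ 2 := Nat.le_of_dvd (by norm_num) (by
      rwa [show (fixB D (f * g)).card = 2 by omega] at hdvd)
    have := h.cls.five; omega
  · have h3 : p ∣ (fixB D (f * g)).card - 1 := hk ▸ dvd_pow_self p hk'.ne'
    have h4 := Nat.dvd_sub hdvd h3
    rw [show (fixB D (f * g)).card - ((fixB D (f * g)).card - 1) = 1 by omega] at h4
    exact h.cls.prime.not_dvd_one h4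

end Ctx

end H92.TP
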