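/-
Three commuting members with product one cannot lie with an outside member noncommuting to them.
-/
import Cfsg.Agent.H92.TP.Blocks

set_option autoImplicit false

namespace H92.TP

universe u

variable {G : Type u} [Group G] {p : ℕ} {D : Set G}

theorem Cls.restrict (hD : Cls p D) (H : Subgroup G) : Cls p {h : H | (h : G) ∈ D} where
  prime := hD.prime
  five := hD.five
  sq d hd := Subtype.ext (hD.sq _ hd)
  ne d hd e := hD.ne _ hd (congrArg Subtype.val e)
  conj g d hd := hD.conj (g : G) _ hd
  ord d hd e he := (hD.ord _ hd _ he).imp (fun hc => Subtype.ext hc.eq) fun hc => Subtype.ext hc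

theorem Cls.quotient (hD : Cls p D) (N : Subgroup G) [N.Normal] :
    Cls p {q : G ⧸ N | q ≠ 1 ∧ ∃ d ∈ D, QuotientGroup.mk' N d = q} where
  prime := hD.prime
  five := hD.five
  sq := by
    rintro _ ⟨-, d, hd, rfl⟩
    rw [← map_mul, hD.sq d hd, map_one]
  ne q hq := hq.1
  conj := by
    rintro g _ ⟨h1, d, hd, rfl⟩
    obtain ⟨g, rfl⟩ := QuotientGroup.mk'_surjective N g
    refine ⟨by simpa using h1, g * d * g⁻¹, hD.conj g d hd, by simp⟩
  ord := by
    rintro _ ⟨-, d, hd, rfl⟩ _ ⟨-, e, he, rfl⟩
    exact (hD.ord d hd e he).imp (fun hc => hc.map _) fun hc => by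
      rw [← map_mul, ← map_pow, hc, map_one]

theorem Cls.prod_mem_of_comm (hD : Cls p D) {d e : G} (hd : d ∈ D) (he : e ∈ D)
    (hne : ¬ Commute d e) {N : Subgroup G} [N.Normal]
    (hc : Commute (QuotientGroup.mk' N d) (QuotientGroup.mk' N e)) : d * e ∈ N := by
  have h2 : QuotientGroup.mk' N (d * e) ^ 2 = 1 := by
    rw [map_mul, pow_two, mul_assoc, ← mul_assoc (QuotientGroup.mk' N e), ← hc.eq, mul_assoc,
      ← map_mul (QuotientGroup.mk' N) e e, hD.sq e he, map_one, mul_one, ← map_mul, hD.sq d hd,
      map_one]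
  have hp : QuotientGroup.mk' N (d * e) ^ p = 1 := by
    rw [← map_pow, hD.pow_prod hd he hne, map_one]
  have h1 := pow_gcd_eq_one.mpr ⟨h2, hp⟩
  rw [(Nat.coprime_two_left.mpr hD.odd).gcd_eq_one, pow_one] at h1
  exact (QuotientGroup.eq_one_iff _).mp h1

theorem Cls.eq_one_of_pair (hD : Cls p D) {x z y : G} (hx : x ∈ D) (hz : z ∈ D) (hy : y ∈ D)
    (hxz : x ≠ z) (hw : x * z ∈ D) (hxy : ¬ Commute x y) (hzy : ¬ Commute z y) :
    ¬ Commute (x * z) y := by
  intro hc
  have hwz : x * z * z = x := by rw [mul_assoc, hD.sq z hz, mul_one]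
  have hzz : z * (x * z) = x * z * z := by
    have h1 := hD.sq _ hw
    have h2 : z * x = x * z := by
      rw [← hD.inv_eq hw, mul_inv_rev, hD.inv_eq hz, hD.inv_eq hx]
    rw [← mul_assoc, h2]
  refine hxz (hD.swap_unique hx hz hy ?_ (hD.ne_of_not_comm hx hxy))
  have hxe : x = z * (x * z) := by rw [hzz, hwz]
  calc x * y * x = z * (x * z) * y * (x * z * z) := by rw [hwz, ← hxe]
    _ = z * ((x * z) * y * (x * z)) * z := by simp only [mul_assoc]
    _ = z * y * z := by rw [hc.eq, mul_assoc y, hD.sq _ hw, mul_one]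

/-- There is no such configuration. -/
theorem no_triangle : ∀ (n : ℕ) {G : Type u} [Group G] [Finite G] {D : Set G}, Nat.card G = n →
    ∀ {p : ℕ}, Cls p D → ∀ {x z y : G}, x ∈ D → z ∈ D → y ∈ D → x ≠ z → x * z ∈ D →
      ¬ Commute x y → ¬ Commute z y → False := by
  intro n
  induction n using Nat.strong_induction_on with
  | _ n IH =>
  intro G _ _ D hn p hD x z y hx hz hy hxz hw hxy hzy
  subst hn
  have hwy : ¬ Commute (x * z) y := hD.eq_one_of_pair hx hz hy hxz hw hxy hzy
  have sub : ∀ H : Subgroup G, H ≠ ⊤ → ∀ {a b c : G}, a ∈ D → b ∈ D → c ∈ D → a ≠ b → a * b ∈ D →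
      ¬ Commute a c → ¬ Commute b c → a ∈ H → b ∈ H → c ∈ H → False := by
    intro H hH a b c ha hb hc hab hwab hac hbc haH hbH hcH
    refine IH (Nat.card H) ?_ rfl (hD.restrict H) (x := ⟨a, haH⟩) (z := ⟨b, hbH⟩) (y := ⟨c, hcH⟩)
      ha hb hc (fun e => hab (congrArg Subtype.val e)) hwab
      (fun e => hac (e.map H.subtype)) (fun e => hbc (e.map H.subtype))
    exact lt_of_le_of_ne (Subgroup.card_le_card_group H)
      fun e => hH (Subgroup.eq_top_of_card_eq H e)
  have quo : ∀ N : Subgroup G, N.Normal → N ≠ ⊥ → x * z ∉ N → x * y ∉ N → z * y ∉ N → False := by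
    intro N hN hne hwN hxyN hzyN
    have hxN : x ∉ N := fun h => hxyN (by
      have h2 := hN.conj_mem x h (x * y)
      have h3 : x * y * x * (x * y)⁻¹ * x ∈ N := N.mul_mem h2 h
      have h4 : x * y * x * (x * y)⁻¹ * x = (x * y) ^ 2 := by
        rw [mul_inv_rev, hD.inv_eq hx, hD.inv_eq hy]
        simp only [← mul_assoc, pow_two, mul_assoc _ x x, hD.sq x hx, mul_one]
      rw [h4] at h3
      obtain ⟨j, hj⟩ := hD.odd
      have h5 : ((x * y) ^ 2) ^ (j + 1) = x * y := by
        rw [← pow_mul, show 2 * (j + 1) = p + 1 by omega, pow_succ, hD.pow_prod hx hy hxy, one_mul]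
      exact h5 ▸ pow_mem h3 _)
    have hzN : z ∉ N := fun h => hzyN (by
      have h2 := hN.conj_mem z h (z * y)
      have h3 : z * y * z * (z * y)⁻¹ * z ∈ N := N.mul_mem h2 h
      have h4 : z * y * z * (z * y)⁻¹ * z = (z * y) ^ 2 := by
        rw [mul_inv_rev, hD.inv_eq hz, hD.inv_eq hy]
        simp only [← mul_assoc, pow_two, mul_assoc _ z z, hD.sq z hz, mul_one]
      rw [h4] at h3
      obtain ⟨j, hj⟩ := hD.odd
      have h5 : ((z * y) ^ 2) ^ (j + 1) = z * y := by
        rw [← pow_mul, show 2 * (j + 1) = p + 1 by omega, pow_succ, hD.pow_prod hz hy hzy, one_mul]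
      exact h5 ▸ pow_mem h3 _)
    have hyN : y ∉ N := fun h => hxyN (by
      have h2 := hN.conj_mem y h (x * y)
      have h3 : x * y * y * (x * y)⁻¹ * y ∈ N := N.mul_mem h2 h
      have h4 : x * y * y * (x * y)⁻¹ * y = (x * y) ^ 2 := by
        rw [mul_inv_rev, hD.inv_eq hx, hD.inv_eq hy, pow_two]
        simp only [← mul_assoc, mul_assoc _ y y, hD.sq y hy, mul_one]
      rw [h4] at h3
      obtain ⟨j, hj⟩ := hD.odd
      have h5 : ((x * y) ^ 2) ^ (j + 1) = x * y := by
        rw [← pow_mul, show 2 * (j + 1) = p + 1 by omega, pow_succ, hD.pow_prod hx hy hxy, one_mul]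
      exact h5 ▸ pow_mem h3 _)
    have hne1 : ∀ d : G, d ∉ N → QuotientGroup.mk' N d ≠ 1 :=
      fun d hd e => hd ((QuotientGroup.eq_one_iff d).mp e)
    refine IH (Nat.card (G ⧸ N)) ?_ rfl (hD.quotient N) (x := QuotientGroup.mk' N x)
      (z := QuotientGroup.mk' N z) (y := QuotientGroup.mk' N y)
      ⟨hne1 x hxN, x, hx, rfl⟩ ⟨hne1 z hzN, z, hz, rfl⟩ ⟨hne1 y hyN, y, hy, rfl⟩ ?_
      ⟨by rw [← map_mul]; exact hne1 _ hwN, x * z, hw, map_mul _ _ _⟩
      (fun e => hxyN (hD.prod_mem_of_comm hx hy hxy e))
      (fun e => hzyN (hD.prod_mem_of_comm hz hy hzy e))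
    · rw [Subgroup.card_eq_card_quotient_mul_card_subgroup N]
      exact lt_mul_of_one_lt_right Nat.card_pos (N.one_lt_card_iff_ne_bot.mpr hne)
    · intro e
      refine hwN ?_
      have h2 := QuotientGroup.eq.mp e
      rwa [hD.inv_eq hx] at h2
  -- generation and trivial centre
  have htop : Subgroup.closure ({x, z, y} : Set G) = ⊤ := by
    by_contra hne
    exact sub _ hne hx hz hy hxz hw hxy hzy (Subgroup.subset_closure (by simp))
      (Subgroup.subset_closure (by simp)) (Subgroup.subset_closure (by simp))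
  have hcen : Subgroup.center G = ⊥ := by
    by_contra hne
    refine quo _ inferInstance hne (fun h => hwy ?_) (fun h => hxy ?_) (fun h => hzy ?_)
    · exact (Subgroup.mem_center_iff.mp h y).symm
    · have h1 := Subgroup.mem_center_iff.mp h x
      show x * y = y * x
      rw [← mul_assoc, hD.sq x hx, one_mul] at h1
      calc x * y = x * (x * y * x) := by rw [← h1]
        _ = y * x := by simp only [← mul_assoc, hD.sq x hx, one_mul]
    · have h1 := Subgroup.mem_center_iff.mp h z
      show z * y = y * z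
      rw [← mul_assoc, hD.sq z hz, one_mul] at h1
      calc z * y = z * (z * y * z) := by rw [← h1]
        _ = y * z := by simp only [← mul_assoc, hD.sq z hz, one_mul]
  have loc : ∀ c : G, c ≠ 1 → ∀ {a b e : G}, a ∈ D → b ∈ D → e ∈ D → a ≠ b → a * b ∈ D →
      ¬ Commute a e → ¬ Commute b e → Commute c a → Commute c b → Commute c e → False := by
    intro c hc a b e ha hb he hab hwab hae hbe hca hcb hce
    refine sub (Subgroup.centralizer {c}) (fun htop' => hc ?_) ha hb he hab hwab hae hbe
      (Subgroup.mem_centralizer_singleton_iff.mpr hca.eq.symm)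
      (Subgroup.mem_centralizer_singleton_iff.mpr hcb.eq.symm)
      (Subgroup.mem_centralizer_singleton_iff.mpr hce.eq.symm)
    have : c ∈ Subgroup.center G := Subgroup.mem_center_iff.mpr fun g => by
      have hg : g ∈ Subgroup.centralizer {c} := htop' ▸ Subgroup.mem_top g
      exact Subgroup.mem_centralizer_singleton_iff.mp hg
    rwa [hcen, Subgroup.mem_bot] at this
  -- restrict to the class of `x`
  set E : Set G := {d | ∃ g : G, g * x * g⁻¹ = d} with hE
  have hED : ∀ d ∈ E, d ∈ D := by rintro _ ⟨g, rfl⟩; exact hD.conj g x hx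
  have hEc : Cls p E :=
    { prime := hD.prime
      five := hD.five
      sq := fun d hd => hD.sq d (hED d hd)
      ne := fun d hd => hD.ne d (hED d hd)
      conj := fun g d ⟨k, hk⟩ => ⟨g * k, by rw [← hk]; group⟩
      ord := fun d hd e he => hD.ord d (hED d hd) e (hED e he) }
  have hlink : ∀ d ∈ E, ∀ e ∈ D, ¬ Commute d e → e ∈ E := by
    intro d hd e he hde
    obtain ⟨m, hm, -, hmd, -⟩ := hD.exists_mid (hED d hd) he hde
    rw [← hmd]
    have := hEc.conj m d hd
    rwa [hD.inv_eq hm] at this
  have hxE : x ∈ E := ⟨1, by simp⟩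
  have hyE : y ∈ E := hlink x hxE y hy hxy
  have hzE : z ∈ E := hlink y hyE z hz fun hc => hzy hc.symm
  have hwE : x * z ∈ E := hlink y hyE _ hw fun hc => hwy hc.symm
  have hxz' : Commute x z := by
    show x * z = z * x
    conv_lhs => rw [← hD.inv_eq hw, mul_inv_rev, hD.inv_eq hz, hD.inv_eq hx]
  -- triangle mates are twins
  have twin : ∀ d ∈ E, Commute x d → Commute z d := by
    intro d hd hxd
    by_contra hzd
    have hw1 : x * z ≠ z := fun e => hD.ne x hx (mul_eq_right.mp e)
    have hwd : ¬ Commute (x * z) d := fun hc => hzd (by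
      have h2 := hxd.mul_left hc
      rwa [← mul_assoc, hD.sq x hx, one_mul] at h2)
    refine hw1 (hD.swap_unique hw hz (hED d hd) ?_ (hD.ne_of_not_comm hw hwd))
    calc x * z * d * (x * z) = z * x * d * (x * z) := by rw [hxz'.eq]
      _ = z * d * (x * x) * z := by
        rw [mul_assoc z x d, hxd.eq]; simp only [mul_assoc]
      _ = z * d * z := by rw [hD.sq x hx, mul_one]
  have nb : ∀ b ∈ E, Commute x b → ∀ d ∈ E, Commute b d → Commute x d := by
    intro b hb hxb d hd hbd
    by_contra hxd
    have hzd : ¬ Commute z d := fun hc => by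
      refine hxd ?_
      by_contra hxd'
      have hwd : ¬ Commute (x * z) d := fun hcw => hxd' (by
        have h2 := hcw.mul_left hc
        rwa [mul_assoc, hD.sq z hz, mul_one] at h2)
      have hne : x * z ≠ x := fun e => hD.ne z hz (mul_eq_left.mp e)
      refine hne (hD.swap_unique hw hx (hED d hd) ?_ (hD.ne_of_not_comm hw hwd))
      calc x * z * d * (x * z) = x * (z * d) * (z * x) := by
            rw [show x * z * d * (x * z) = x * z * d * (z * x) by rw [← hxz'.eq], mul_assoc x z d]
        _ = x * d * (z * z) * x := by rw [hc.eq]; simp only [mul_assoc]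
        _ = x * d * x := by rw [hD.sq z hz, mul_one]
    exact loc b (hD.ne b (hED b hb)) hx hz (hED d hd) hxz hw hxd hzd hxb.symm
      ((twin b hb hxb).symm) hbd
  have eqv : ∀ a ∈ E, ∀ b ∈ E, ∀ c ∈ E, Commute a b → Commute b c → Commute a c := by
    rintro _ ⟨g, rfl⟩ b hb c hc hab hbc
    have back : ∀ u v : G, Commute u v → Commute (g⁻¹ * u * g) (g⁻¹ * v * g) := fun u v huv => by
      have := huv.map (MulAut.conj g⁻¹).toMonoidHom
      simpa [MulAut.conj_apply] using this
    have h1 := back _ _ hab
    have hxx : g⁻¹ * (g * x * g⁻¹) * g = x := by group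
    rw [hxx] at h1
    have h2 := nb _ (by simpa using hEc.conj g⁻¹ b hb) h1 _ (by simpa using hEc.conj g⁻¹ c hc)
      (back _ _ hbc)
    have := h2.map (MulAut.conj g).toMonoidHom
    simpa [MulAut.conj_apply, mul_assoc] using this
  have cent : ∀ c : G, ∀ a ∈ E, ∀ b ∈ E, (∀ e ∈ E, Commute a e → Commute c e) → ¬ Commute a b →
      Commute c b → c = 1 := by
    rintro c _ ⟨g, rfl⟩ b hb hall hab hcb
    by_contra hc
    have hzg : g * z * g⁻¹ ∈ E := hEc.conj g z hzE
    have hcomm : Commute (g * x * g⁻¹) (g * z * g⁻¹) := hxz'.map (MulAut.conj g).toMonoidHom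
    refine loc c hc (hD.conj g x hx) (hD.conj g z hz) (hED b hb) ?_ ?_ hab ?_
      (hall _ ⟨g, rfl⟩ (Commute.refl _)) (hall _ hzg hcomm) hcb
    · exact fun e => hxz (mul_left_cancel (mul_right_cancel e))
    · have := hD.conj g _ hw
      convert this using 1
      group
    · exact fun hz' => hab (eqv _ ⟨g, rfl⟩ _ hzg _ hb hcomm hz')
  have closed : ∀ a ∈ E, ∀ b ∈ E, Commute a b → a ≠ b → a * b ∈ E := by
    intro a ha b hb hab hne
    by_contra hv
    have haD := hED a ha
    have hbD := hED b hb
    set v := a * b with hvdef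
    have hvv : v * v = 1 := by
      calc a * b * (a * b) = a * (b * a) * b := by simp only [mul_assoc]
        _ = (a * a) * (b * b) := by rw [← hab.eq]; simp only [mul_assoc]
        _ = 1 := by rw [hD.sq a haD, one_mul, hD.sq b hbD]
    have hvi : v⁻¹ = v := inv_eq_of_mul_eq_one_right hvv
    have hvall : ∀ e ∈ E, Commute a e → Commute v e := fun e he hae =>
      hae.mul_left (eqv b hb a ha e he hab.symm hae)
    have fix : ∀ d ∈ E, Commute (v * d * v⁻¹) d := by
      intro d hd
      by_contra hnc
      have hda : ¬ Commute a d := fun hc => hnc (by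
        rw [(hvall d hd hc).eq, mul_inv_cancel_right])
      have hd' : v * d * v⁻¹ ∈ E := hEc.conj v d hd
      obtain ⟨u, hu, -, hud, hund⟩ := hEc.exists_mid hd hd' fun hc => hnc hc.symm
      have huv : Commute v u := by
        have h1 : v * u * v⁻¹ = u := by
          refine hEc.swap_unique (hEc.conj v u hu) hu hd ?_ (hEc.ne_of_not_comm (hEc.conj v u hu) ?_)
          · rw [hud]
            have h2 : u * (v * d * v⁻¹) * u = d := by
              rw [← hud, ← mul_assoc, ← mul_assoc, hEc.sq u hu, one_mul, mul_assoc, hEc.sq u hu, mul_one]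
            calc v * u * v⁻¹ * d * (v * u * v⁻¹) = v * (u * (v * d * v⁻¹) * u) * v⁻¹ := by
                  rw [hvi]; simp only [mul_assoc]
              _ = v * d * v⁻¹ := by rw [h2]
          · intro hc
            have h3 := hc.map (MulAut.conj v).toMonoidHom
            simp only [MulEquiv.coe_toMonoidHom, MulAut.conj_apply, hvi] at h3
            rw [show v * (v * u * v) * v = (v * v) * u * (v * v) by simp only [mul_assoc], hvv,
              one_mul, mul_one] at h3
            refine hund ?_
            by_contra hnu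
            replace h3 : Commute u (u * d * u) := by rw [hud, hvi]; exact h3
            have h4 : u * (u * d * u) * u = d := by
              rw [← mul_assoc, ← mul_assoc, hEc.sq u hu, one_mul, mul_assoc, hEc.sq u hu, mul_one]
            have h5 := h3.map (MulAut.conj u).toMonoidHom
            simp only [MulEquiv.coe_toMonoidHom, MulAut.conj_apply, hEc.inv_eq hu, h4, hEc.sq u hu,
              one_mul] at h5
            exact hnu h5
        exact mul_inv_eq_iff_eq_mul.mp h1
      by_cases hua : Commute a u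
      · have hc : u * v = 1 := by
          refine cent (u * v) a ha d hd (fun e he hae => ?_) hda ?_
          · exact (eqv u hu a ha e he hua.symm hae).mul_left (hvall e he hae)
          · show u * v * d = d * (u * v)
            have h2 : u * (v * d * v⁻¹) * u = d := by
              rw [← hud, ← mul_assoc, ← mul_assoc, hEc.sq u hu, one_mul, mul_assoc, hEc.sq u hu, mul_one]
            calc u * v * d = u * (v * d * v⁻¹) * (u * u) * v := by
                  rw [hEc.sq u hu, mul_one]; group
              _ = (u * (v * d * v⁻¹) * u) * (u * v) := by simp only [mul_assoc]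
              _ = d * (u * v) := by rw [h2]
        exact hv (show v ∈ E by
          rw [← inv_eq_of_mul_eq_one_right hc, hEc.inv_eq hu]; exact hu)
      · have hv1 : v = 1 := cent v a ha u hu hvall hua huv
        exact hne (by
          have := eq_inv_of_mul_eq_one_left hv1
          rwa [hD.inv_eq hbD] at this)
    let K : Subgroup G :=
      { carrier := {g | ∀ d ∈ E, Commute (g * d * g⁻¹) d}
        one_mem' := fun d hd => by simp
        mul_mem' := fun {g k} hg hk d hd => by
          have h1 := hg _ (hEc.conj k d hd)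
          have h2 := eqv _ (hEc.conj g _ (hEc.conj k d hd)) _ (hEc.conj k d hd) d hd h1 (hk d hd)
          convert h2 using 1
          group
        inv_mem' := fun {g} hg d hd => by
          have h1 := hg _ (hEc.conj g⁻¹ d hd)
          have h2 : Commute d (g⁻¹ * d * g) := by convert h1 using 1 <;> group
          simpa using h2.symm }
    have hK : K.Normal := ⟨fun k hk g d hd => by
      have h1 := (hk _ (hEc.conj g⁻¹ d hd)).map (MulAut.conj g).toMonoidHom
      simp only [MulEquiv.coe_toMonoidHom, MulAut.conj_apply] at h1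
      convert h1 using 1 <;> group⟩
    refine quo K hK (fun e => ?_) (fun h => ?_) (fun h => ?_) fun h => ?_
    · have hvK : v ∈ K := fix
      rw [e, Subgroup.mem_bot] at hvK
      exact hne (by
        have := eq_inv_of_mul_eq_one_left hvK
        rwa [hD.inv_eq hbD] at this)
    · have h1 := h y hyE
      rw [hD.inv_eq hw] at h1
      exact hD.not_comm_conj hw hy hwy h1
    · have h1 := h x hxE
      rw [mul_inv_rev, hD.inv_eq hx, hD.inv_eq hy] at h1
      refine hD.not_comm_conj hy hx (fun hc => hxy hc.symm) ?_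
      have h2 := h1.map (MulAut.conj x).toMonoidHom
      simp only [MulEquiv.coe_toMonoidHom, MulAut.conj_apply, hD.inv_eq hx, ← mul_assoc, hD.sq x hx,
        one_mul, mul_assoc _ x x, mul_one] at h2
      exact h2
    · have h1 := h z hzE
      rw [mul_inv_rev, hD.inv_eq hz, hD.inv_eq hy] at h1
      refine hD.not_comm_conj hy hz (fun hc => hzy hc.symm) ?_
      have h2 := h1.map (MulAut.conj z).toMonoidHom
      simp only [MulEquiv.coe_toMonoidHom, MulAut.conj_apply, hD.inv_eq hz, ← mul_assoc, hD.sq z hz,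
        one_mul, mul_assoc _ z z, mul_one] at h2
      exact h2
  classical
  haveI : Fintype G := Fintype.ofFinite G
  refine Ctx.absurd' (p := p) (D := E) ⟨hEc, eqv, ?_, closed, cent, ⟨x, hxE, y, hyE, hxy⟩, ?_⟩
  · rintro _ ⟨g, rfl⟩ _ ⟨k, rfl⟩
    exact ⟨k * g⁻¹, by group⟩
  · rintro _ ⟨g, rfl⟩
    exact ⟨g * z * g⁻¹, hEc.conj g z hzE, fun e => hxz (mul_left_cancel (mul_right_cancel e)).symm,
      hxz'.map (MulAut.conj g).toMonoidHom⟩

end H92.TP
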