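/-
A rank three class of involutions in a group with trivial solvable radical.
-/
import Cfsg.Agent.H92.TP.Triangle
import Cfsg.Agent.H65.BaerSuzuki
import Cfsg.Agent.H16.OddOrder
import Cfsg.Agent.H25.Kazarin

set_option autoImplicit false

namespace H92.TP

universe u

variable {G : Type u} [Group G] [Finite G] {p : ℕ} {D : Set G}

/-- Two commuting members and a member noncommuting with both. -/
theorem Cls.comm_pair_conj (hD : Cls p D) {x z y : G} (hx : x ∈ D) (hz : z ∈ D) (hy : y ∈ D)
    (hxz : x ≠ z) (hc : Commute x z) (hxy : ¬ Commute x y) (hzy : ¬ Commute z y) :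
    x * z * y * (x * z) ≠ y ∧ Commute y (x * z * y * (x * z)) := by
  have hvv : x * z * (x * z) = 1 := by
    calc x * z * (x * z) = x * (z * x) * z := by simp only [mul_assoc]
      _ = x * x * (z * z) := by rw [← hc.eq]; simp only [mul_assoc]
      _ = 1 := by rw [hD.sq x hx, hD.sq z hz, one_mul]
  have hvi : (x * z)⁻¹ = x * z := inv_eq_of_mul_eq_one_right hvv
  have key : ∀ w : G, x * z * w * (x * z) = w → x * w * x = z * w * z := by
    intro w hw
    have hw' : x * (z * w * z) * x = w := by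
      calc x * (z * w * z) * x = x * z * w * (z * x) := by simp only [mul_assoc]
        _ = w := by rw [← hc.eq, hw]
    calc x * w * x = x * (x * (z * w * z) * x) * x := by rw [hw']
      _ = z * w * z := by simp only [← mul_assoc, mul_assoc _ x x, hD.sq x hx, one_mul, mul_one]
  have hne : x * z * y * (x * z) ≠ y := fun e =>
    hxz (hD.swap_unique hx hz hy (key y e) (hD.ne_of_not_comm hx hxy))
  refine ⟨hne, ?_⟩
  by_contra hnc
  set y' := x * z * y * (x * z) with hy'
  have hy'D : y' ∈ D := by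
    have := hD.conj (x * z) y hy
    rwa [hvi] at this
  obtain ⟨u, hu, -, huy, hunc⟩ := hD.exists_mid hy hy'D hnc
  have huy' : u * y' * u = y := by
    rw [← huy]
    simp only [← mul_assoc, mul_assoc _ u u, hD.sq u hu, one_mul, mul_one]
  have hu'D : x * z * u * (x * z) ∈ D := by
    have := hD.conj (x * z) u hu
    rwa [hvi] at this
  have hvu : x * z * u * (x * z) = u := by
    refine (hD.swap_unique hu hu'D hy ?_ (by rw [huy]; exact hne)).symm
    calc u * y * u = y' := huy
      _ = x * z * (u * y' * u) * (x * z) := by rw [huy', hy']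
      _ = x * z * u * (x * z) * y * (x * z * u * (x * z)) := by
        rw [hy']; simp only [mul_assoc]
  have hux : Commute x u := by
    by_contra hn
    exact hxz (hD.swap_unique hx hz hu (key u hvu) (hD.ne_of_not_comm hx hn))
  have huz : Commute z u := by
    by_contra hn
    exact hn (by
      have h1 := key u hvu
      rw [hux.eq, mul_assoc, hD.sq x hx, mul_one] at h1
      show z * u = u * z
      calc z * u = z * u * (z * z) := by rw [hD.sq z hz, mul_one]
        _ = (z * u * z) * z := by simp only [mul_assoc]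
        _ = u * z := by rw [← h1])
  have hux' : u ≠ x := by
    rintro rfl
    refine hD.ne_of_not_comm hz hzy ?_
    have h1 : u * (z * y * z) * u = u * y * u := by
      calc u * (z * y * z) * u = u * z * y * (z * u) := by simp only [mul_assoc]
        _ = u * y * u := by rw [← hc.eq, ← hy', huy]
    exact mul_left_cancel (mul_right_cancel h1)
  have huz' : u ≠ z := by
    rintro rfl
    refine hD.ne_of_not_comm hx hxy ?_
    have h1 : u * (x * y * x) * u = u * y * u := by
      calc u * (x * y * x) * u = u * x * y * (x * u) := by simp only [mul_assoc]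
        _ = u * y * u := by rw [← hc.eq, ← hy', huy]
    exact mul_left_cancel (mul_right_cancel h1)
  set t := x * z * u with ht
  have huv : Commute (x * z) u := hux.mul_left huz
  have htt : t * t = 1 := by
    calc x * z * u * (x * z * u) = x * z * (u * (x * z)) * u := by simp only [mul_assoc]
      _ = x * z * (x * z) * (u * u) := by rw [← huv.eq]; simp only [mul_assoc]
      _ = 1 := by rw [hvv, hD.sq u hu, one_mul]
  have htx : Commute t x := ((Commute.refl x).mul_left hc.symm).mul_left hux.symm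
  have htz : Commute t z := (hc.mul_left (Commute.refl z)).mul_left huz.symm
  have hty : Commute t y := by
    have h1 : t * y * t = y := by
      calc x * z * u * y * (x * z * u) = x * z * u * y * (u * (x * z)) := by rw [huv.eq]
        _ = x * z * (u * y * u) * (x * z) := by simp only [mul_assoc]
        _ = (x * z) * (x * z) * y * ((x * z) * (x * z)) := by
          rw [huy, hy']; simp only [mul_assoc]
        _ = y := by rw [hvv, one_mul, mul_one]
    show t * y = y * t
    calc t * y = t * y * (t * t) := by rw [htt, mul_one]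
      _ = t * y * t * t := by simp only [mul_assoc]
      _ = y * t := by rw [h1]
  by_cases ht1 : t = 1
  · have hxzu : x * z = u := by
      rw [eq_inv_of_mul_eq_one_left ht1, hD.inv_eq hu]
    exact no_triangle (Nat.card G) rfl hD hx hz hy hxz (by rw [hxzu]; exact hu) hxy hzy
  let H : Subgroup G := Subgroup.centralizer {t}
  have memH : ∀ {w : G}, Commute t w → w ∈ H := fun hw =>
    Subgroup.mem_centralizer_singleton_iff.mpr hw.eq.symm
  let t' : H := ⟨t, memH (Commute.refl t)⟩
  let N : Subgroup H := Subgroup.zpowers t'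
  have hcN : ∀ g : H, Commute g t' := fun g =>
    Subtype.ext (Subgroup.mem_centralizer_singleton_iff.mp g.2)
  haveI hN : N.Normal := ⟨fun n hn g => by
    obtain ⟨k, rfl⟩ := Subgroup.mem_zpowers_iff.mp hn
    rw [((hcN g).zpow_right k).eq, mul_inv_cancel_right]
    exact hn⟩
  have hmemN : ∀ w : H, w ∈ N → (w : G) = 1 ∨ (w : G) = t := by
    intro w hw
    obtain ⟨k, rfl⟩ := Subgroup.mem_zpowers_iff.mp hw
    rw [SubgroupClass.coe_zpow]
    rcases Int.even_or_odd' k with ⟨j, rfl | rfl⟩
    · left; rw [zpow_mul, zpow_two, htt, one_zpow]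
    · right; rw [zpow_add, zpow_mul, zpow_two, htt, one_zpow, zpow_one, one_mul]
  have hDH := hD.restrict H
  let x' : H := ⟨x, memH htx⟩
  let z' : H := ⟨z, memH htz⟩
  let y' : H := ⟨y, memH hty⟩
  let u' : H := ⟨u, memH (huv.mul_left (Commute.refl u) : Commute t u)⟩
  have ne1 : ∀ w : H, (w : G) ∈ D → (w : G) ≠ t → QuotientGroup.mk' N w ≠ 1 := fun w hw hwt e =>
    (hmemN w ((QuotientGroup.eq_one_iff w).mp e)).elim (hD.ne _ hw) hwt
  have hxt : x ≠ t := fun e => huz' (by
    have h1 : z * u = 1 := by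
      refine mul_left_cancel (a := x) ?_
      rw [← mul_assoc, mul_one]; exact e.symm
    rw [eq_inv_of_mul_eq_one_right h1, hD.inv_eq hz])
  have hzt : z ≠ t := fun e => hux' (by
    have h1 : x * u = 1 := by
      refine mul_left_cancel (a := z) ?_
      rw [← mul_assoc, ← hc.eq, mul_one]; exact e.symm
    rw [eq_inv_of_mul_eq_one_right h1, hD.inv_eq hx])
  have hut : u ≠ t := fun e => hxz (by
    have h1 : x * z = 1 := mul_right_cancel (b := u) (by rw [one_mul]; exact e.symm)
    rw [eq_inv_of_mul_eq_one_left h1, hD.inv_eq hz])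
  have hyt : y ≠ t := fun e => hxy (e ▸ htx.symm)
  have hprod : ∀ w : H, (w : G) ∈ D → Commute (w : G) t → ¬ Commute (w : G) y → w * y' ∉ N := by
    intro w hw hwt hwy h
    rcases hmemN _ h with h1 | h1
    · refine hwy ?_
      have := eq_inv_of_mul_eq_one_left (show (w : G) * y = 1 from h1)
      rw [this, hD.inv_eq hy]
    · refine hwy ?_
      have h2 : Commute (w : G) ((w : G) * y) := by
        have h' := hwt
        rw [← h1] at h'
        exact h'
      have h3 := ((Commute.refl (w : G)).inv_right).mul_right h2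
      rwa [← mul_assoc, inv_mul_cancel, one_mul] at h3
  have hu'' : QuotientGroup.mk' N x' * QuotientGroup.mk' N z' = QuotientGroup.mk' N u' := by
    rw [← map_mul]
    refine (QuotientGroup.mk'_eq_mk' N).mpr ⟨t', Subgroup.mem_zpowers _, Subtype.ext ?_⟩
    show x * z * (x * z * u) = u
    rw [← mul_assoc, hvv, one_mul]
  refine no_triangle _ rfl (hDH.quotient N) (x := QuotientGroup.mk' N x')
    (z := QuotientGroup.mk' N z') (y := QuotientGroup.mk' N y')
    ⟨ne1 x' hx hxt, x', hx, rfl⟩ ⟨ne1 z' hz hzt, z', hz, rfl⟩ ⟨ne1 y' hy hyt, y', hy, rfl⟩ ?_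
    ?_ (fun e => hprod x' hx htx.symm hxy (hDH.prod_mem_of_comm (d := x') (e := y') hx hy
      (fun h => hxy (h.map H.subtype)) e))
    (fun e => hprod z' hz htz.symm hzy (hDH.prod_mem_of_comm (d := z') (e := y') hz hy
      (fun h => hzy (h.map H.subtype)) e))
  · intro e
    obtain ⟨w, hw, hwz⟩ := (QuotientGroup.mk'_eq_mk' N).mp e
    have hwz' : x * (w : G) = z := congrArg Subtype.val hwz
    rcases hmemN w hw with h1 | h1
    · rw [h1, mul_one] at hwz'; exact hxz hwz'
    · rw [h1] at hwz'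
      refine hxt ?_
      have h2 : (x * z) * (x * z * u) = 1 * u := by rw [← mul_assoc, hvv]
      exfalso
      refine hD.ne u hu ?_
      have h3 : x * (x * z * u) = z * 1 := by rw [mul_one]; exact hwz'
      rw [← mul_assoc, ← mul_assoc, hD.sq x hx, one_mul] at h3
      exact mul_left_cancel h3
  · rw [hu'']
    exact ⟨ne1 u' hu hut, u', hu, rfl⟩

theorem not_twins (hsol : ∀ N : Subgroup G, N.Normal → Group.IsSolvable ↥N → N = ⊥)
    (hD : Cls p D) {x z : G} (hx : x ∈ D) (hz : z ∈ D) (hne : x ≠ z) (hc : Commute x z)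
    (hT : ∀ a ∈ D, ∀ b ∈ D, ∀ c ∈ D, Commute a b → Commute b c → Commute a c) : False := by
  classical
  let K : Subgroup G :=
    { carrier := {g | ∀ d ∈ D, Commute (g * d * g⁻¹) d}
      one_mem' := fun d hd => by simp
      mul_mem' := fun {g k} hg hk d hd => by
        have h1 := hg _ (hD.conj k d hd)
        have h2 := hT _ (hD.conj g _ (hD.conj k d hd)) _ (hD.conj k d hd) d hd h1 (hk d hd)
        convert h2 using 1
        group
      inv_mem' := fun {g} hg d hd => by
        have h1 := hg _ (hD.conj g⁻¹ d hd)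
        have h2 : Commute d (g⁻¹ * d * g) := by convert h1 using 1 <;> group
        simpa using h2.symm }
  have hvK : ∀ a ∈ D, ∀ b ∈ D, a ≠ b → Commute a b → a * b ∈ K := by
    intro a ha b hb hne' hab d hd
    have hvi : (a * b)⁻¹ = a * b := by
      rw [mul_inv_rev, hD.inv_eq ha, hD.inv_eq hb, hab.eq]
    rw [hvi]
    by_cases hda : Commute a d
    · have hdb : Commute b d := hT b hb a ha d hd hab.symm hda
      have h1 : Commute (a * b) d := hda.mul_left hdb
      have h2 : a * b * (a * b) = 1 := by nth_rw 2 [← hvi]; exact mul_inv_cancel _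
      rw [h1.eq, mul_assoc, h2, mul_one]
    · exact (hD.comm_pair_conj ha hb hd hne' hab hda
        (fun hdb => hda (hT a ha b hb d hd hab hdb))).2.symm
  -- the abelian normal subgroups of `K`
  let A : G → Subgroup K := fun a =>
    (Subgroup.closure {d | d ∈ D ∧ Commute a d}).subgroupOf K
  have hAn : ∀ a ∈ D, (A a).Normal ∧ Group.IsSolvable (A a) := by
    intro a ha
    have hcomm := Subgroup.isMulCommutative_closure (k := {d | d ∈ D ∧ Commute a d})
      fun b hb c hc => (hT b hb.1 a ha c hc.1 hb.2.symm hc.2).eq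
    refine ⟨⟨fun n hn g => ?_⟩, Group.isSolvable_of_comm fun s t => ?_⟩
    · rw [Subgroup.mem_subgroupOf] at hn ⊢
      have : Subgroup.closure {d | d ∈ D ∧ Commute a d} ≤
          (Subgroup.closure {d | d ∈ D ∧ Commute a d}).comap (MulAut.conj (g : G)).toMonoidHom := by
        rw [Subgroup.closure_le]
        rintro d ⟨hd, had⟩
        refine Subgroup.subset_closure ⟨hD.conj (g : G) d hd, ?_⟩
        exact hT a ha d hd _ (hD.conj (g : G) d hd) had (g.2 d hd).symm
      exact this hn
    · refine Subtype.ext (Subtype.ext ?_)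
      have h := hcomm.is_comm.comm ⟨_, Subgroup.mem_subgroupOf.mp s.2⟩
        ⟨_, Subgroup.mem_subgroupOf.mp t.2⟩
      show (s.1.1 : G) * t.1.1 = t.1.1 * s.1.1
      exact congrArg Subtype.val h
  haveI : Fintype D := Fintype.ofFinite D
  let R : Subgroup K := D.toFinset.sup A
  have hR : R.Normal ∧ Group.IsSolvable R := by
    refine Finset.sup_induction (p := fun S : Subgroup K => S.Normal ∧ Group.IsSolvable S) ?_ ?_ ?_
    · exact ⟨inferInstance, Group.isSolvable_of_comm fun s t => Subsingleton.elim _ _⟩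
    · rintro S ⟨h1, h2⟩ T ⟨h3, h4⟩
      exact ⟨inferInstance, H25.Kazarin.isSolvable_sup_normal S T h2 h4⟩
    · exact fun a ha => hAn a (Set.mem_toFinset.mp ha)
  haveI := hR.2
  haveI : Group.IsSolvable (R.map K.subtype) :=
    Group.isSolvable_of_surjective (f := (R.equivMapOfInjective K.subtype K.subtype_injective).toMonoidHom)
      (R.equivMapOfInjective K.subtype K.subtype_injective).surjective
  let M : Subgroup G := Subgroup.normalClosure {x * z}
  have hM : M ≤ R.map K.subtype := by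
    rw [show M = Subgroup.closure (Group.conjugatesOfSet {x * z}) from rfl, Subgroup.closure_le]
    intro w hw
    obtain ⟨a, ha, haw⟩ := Group.mem_conjugatesOfSet_iff.mp hw
    rw [Set.mem_singleton_iff] at ha
    subst ha
    obtain ⟨g, rfl⟩ := isConj_iff.mp haw
    have hxg := hD.conj g x hx
    have hzg := hD.conj g z hz
    have hgc : Commute (g * x * g⁻¹) (g * z * g⁻¹) := hc.map (MulAut.conj g).toMonoidHom
    have heq : g * (x * z) * g⁻¹ = g * x * g⁻¹ * (g * z * g⁻¹) := by group
    have hmK : g * x * g⁻¹ * (g * z * g⁻¹) ∈ K :=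
      hvK _ hxg _ hzg (fun e => hne (mul_left_cancel (mul_right_cancel e))) hgc
    refine ⟨⟨_, hmK⟩, ?_, heq.symm⟩
    refine Finset.le_sup (f := A) (Set.mem_toFinset.mpr hxg) ?_
    exact Subgroup.mem_subgroupOf.mpr (mul_mem (Subgroup.subset_closure ⟨hxg, Commute.refl _⟩)
      (Subgroup.subset_closure ⟨hzg, hgc⟩))
  have hMb := hsol M inferInstance
    (Group.isSolvable_of_isSolvable_injective (f := Subgroup.inclusion hM) (Subgroup.inclusion_injective hM))
  have h1 : x * z ∈ M := Subgroup.subset_normalClosure rfl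
  rw [hMb, Subgroup.mem_bot] at h1
  exact hne (by rw [eq_inv_of_mul_eq_one_left h1, hD.inv_eq hz])

/-- No rank three class has products of orders `2` and `p ≥ 5`. -/
theorem no_five (hsol : ∀ N : Subgroup G, N.Normal → Group.IsSolvable ↥N → N = ⊥) (hD : Cls p D)
    (hgen : Subgroup.closure D = ⊤) (htr : ∀ d ∈ D, ∀ e ∈ D, ∃ g : G, g * d * g⁻¹ = e)
    (hA : ∀ x ∈ D, ∃ a ∈ D, a ≠ x ∧ Commute x a)
    (hR : ∀ x ∈ D, ∀ a ∈ D, ∀ b ∈ D, a ≠ x → b ≠ x → (Commute x a ↔ Commute x b) →
      ∃ g : G, Commute g x ∧ g * a * g⁻¹ = b) (hne : D.Nonempty) : False := by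
  obtain ⟨x₀, hx₀⟩ := hne
  obtain ⟨z₀, hz₀, hzx₀, hc₀⟩ := hA x₀ hx₀
  by_cases hT : ∀ a ∈ D, ∀ b ∈ D, ∀ c ∈ D, Commute a b → Commute b c → Commute a c
  · exact not_twins hsol hD hx₀ hz₀ (Ne.symm hzx₀) hc₀ hT
  -- ordered commuting pairs are conjugate
  have pairs : ∀ a ∈ D, ∀ b ∈ D, a ≠ b → Commute a b → ∀ x ∈ D, ∀ z ∈ D, x ≠ z → Commute x z →
      ∃ g : G, g * a * g⁻¹ = x ∧ g * b * g⁻¹ = z := by
    intro a ha b hb hab habc x hx z hz hxz hxzc
    obtain ⟨g, hg⟩ := htr a ha x hx
    have hb' : g * b * g⁻¹ ∈ D := hD.conj g b hb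
    have hne' : g * b * g⁻¹ ≠ x := fun e => hab (by
      rw [← hg] at e
      exact (mul_left_cancel (mul_right_cancel e)).symm)
    have hc' : Commute x (g * b * g⁻¹) := hg ▸ habc.map (MulAut.conj g).toMonoidHom
    obtain ⟨h, hhx, hh⟩ := hR x hx _ hb' z hz hne' (Ne.symm hxz) (iff_of_true hc' hxzc)
    refine ⟨h * g, ?_, ?_⟩
    · calc h * g * a * (h * g)⁻¹ = h * (g * a * g⁻¹) * h⁻¹ := by group
        _ = x := by rw [hg, hhx.eq, mul_inv_cancel_right]
    · rw [← hh]; group
  -- no pair are twins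
  have NT : ∀ x ∈ D, ∀ z ∈ D, x ≠ z → Commute x z → ∃ c ∈ D, Commute x c ∧ ¬ Commute z c := by
    push Not at hT
    obtain ⟨a, ha, b, hb, c, hcD, hab, hbc, hac⟩ := hT
    intro x hx z hz hxz hxzc
    have hba : b ≠ a := by rintro rfl; exact hac hbc
    obtain ⟨g, hgb, hga⟩ := pairs b hb a ha hba hab.symm x hx z hz hxz hxzc
    refine ⟨g * c * g⁻¹, hD.conj g c hcD, hgb ▸ hbc.map (MulAut.conj g).toMonoidHom, fun h => hac ?_⟩
    rw [← hga] at h
    have h' := h.map (MulAut.conj g⁻¹).toMonoidHom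
    simpa [MulAut.conj_apply, mul_assoc] using h'
  -- some member commutes with neither
  have hout : ∀ x ∈ D, ∀ z ∈ D, x ≠ z → Commute x z →
      ∃ y ∈ D, ¬ Commute x y ∧ ¬ Commute z y := by
    by_contra hcon
    push Not at hcon
    obtain ⟨a, ha, b, hb, hab, habc, hnone⟩ := hcon
    have hall : ∀ x ∈ D, ∀ z ∈ D, x ≠ z → Commute x z → ∀ y ∈ D, ¬ Commute x y → Commute z y := by
      intro x hx z hz hxz hxzc y hy hxy
      obtain ⟨g, hga, hgb⟩ := pairs a ha b hb hab habc x hx z hz hxz hxzc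
      have hy' : g⁻¹ * y * g ∈ D := by simpa using hD.conj g⁻¹ y hy
      have h1 : ¬ Commute a (g⁻¹ * y * g) := fun h => hxy (by
        have h' := h.map (MulAut.conj g).toMonoidHom
        rw [← hga]
        simpa [MulAut.conj_apply, mul_assoc] using h')
      have h2 := (hnone _ hy' h1).map (MulAut.conj g).toMonoidHom
      rw [← hgb]
      simpa [MulAut.conj_apply, mul_assoc] using h2
    -- neighbours of two noncommuting members agree
    have heq : ∀ x ∈ D, ∀ y ∈ D, ¬ Commute x y → ∀ w ∈ D,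
        (w ≠ x ∧ Commute x w) → (w ≠ y ∧ Commute y w) := by
      intro x hx y hy hxy w hw hwx
      exact ⟨fun e => hxy (e ▸ hwx.2),
        (hall x hx w hw (Ne.symm hwx.1) hwx.2 y hy hxy).symm⟩
    let Nb : G → G → Prop := fun u w => w ≠ u ∧ Commute u w
    let P : G → Prop := fun u => u ∈ D ∧ ∀ w ∈ D, (Nb u w ↔ Nb x₀ w)
    have hstep : ∀ d ∈ D, ∀ u, P u → P (d * u * d) := by
      intro d hd u ⟨hu, hN⟩
      by_cases hdu : Commute d u
      · rw [hdu.eq, mul_assoc, hD.sq d hd, mul_one]; exact ⟨hu, hN⟩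
      refine ⟨hD.conjD hd hu, fun w hw => ?_⟩
      have hud : ∀ w ∈ D, Nb u w ↔ Nb d w := fun w hw =>
        ⟨heq u hu d hd (fun h => hdu h.symm) w hw, heq d hd u hu hdu w hw⟩
      rw [← hN w hw]
      have hdi : d⁻¹ = d := hD.inv_eq hd
      constructor
      · intro ⟨h1, h2⟩
        have hw' : d * w * d ∈ D := hD.conjD hd hw
        have hNu : Nb u (d * w * d) := ⟨fun e => h1 (by
            rw [← e]; simp only [← mul_assoc, mul_assoc _ d d, hD.sq d hd, one_mul, mul_one]), by
          have h' := h2.map (MulAut.conj d).toMonoidHom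
          simp only [MulEquiv.coe_toMonoidHom, MulAut.conj_apply, hdi] at h'
          simpa only [← mul_assoc, mul_assoc _ d d, hD.sq d hd, one_mul, mul_one] using h'⟩
        have hdw := ((hud _ hw').mp hNu).2
        have hweq : d * w * d = w := by
          have h' : d * (d * w * d) * d = d * w * d := by rw [hdw.eq, mul_assoc, hD.sq d hd, mul_one]
          rw [← h']; simp only [← mul_assoc, mul_assoc _ d d, hD.sq d hd, one_mul, mul_one]
        rwa [hweq] at hNu
      · intro h
        have hdw := ((hud w hw).mp h).2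
        have hweq : d * w * d = w := by rw [hdw.eq, mul_assoc, hD.sq d hd, mul_one]
        refine ⟨fun e => h.1 ?_, ?_⟩
        · rw [← hweq, e]; simp only [← mul_assoc, mul_assoc _ d d, hD.sq d hd, one_mul, mul_one]
        · have h' := h.2.map (MulAut.conj d).toMonoidHom
          simp only [MulEquiv.coe_toMonoidHom, MulAut.conj_apply, hdi] at h'
          rwa [hweq] at h'
    have hgen' : ∀ g : G, ∀ u, P u ↔ P (g * u * g⁻¹) := by
      intro g
      have hg : g ∈ Subgroup.closure D := hgen ▸ Subgroup.mem_top g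
      induction hg using Subgroup.closure_induction with
      | mem d hd =>
        intro u
        rw [hD.inv_eq hd]
        refine ⟨hstep d hd u, fun h => ?_⟩
        have := hstep d hd _ h
        simpa only [← mul_assoc, mul_assoc _ d d, hD.sq d hd, one_mul, mul_one] using this
      | one => intro u; simp
      | mul a b _ _ ha hb =>
        intro u
        rw [hb u, ha (b * u * b⁻¹)]
        simp [mul_assoc]
      | inv a _ ha =>
        intro u
        rw [ha (a⁻¹ * u * a⁻¹⁻¹)]
        simp [mul_assoc]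
    obtain ⟨g, hg⟩ := htr x₀ hx₀ z₀ hz₀
    have hPz : P z₀ := hg ▸ (hgen' g x₀).mp ⟨hx₀, fun w _ => Iff.rfl⟩
    exact ((hPz.2 z₀ hz₀).mpr ⟨hzx₀, hc₀⟩).1 rfl
  -- the main step
  obtain ⟨y, hy, hxy, hzy⟩ := hout x₀ hx₀ z₀ hz₀ (Ne.symm hzx₀) hc₀
  set x := x₀
  set z := z₀
  have hx := hx₀
  have hz := hz₀
  have hxz : x ≠ z := Ne.symm hzx₀
  set v := x * z with hv
  have hvv : v * v = 1 := by
    calc x * z * (x * z) = x * (z * x) * z := by simp only [mul_assoc]
      _ = x * x * (z * z) := by rw [← hc₀.eq]; simp only [mul_assoc]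
      _ = 1 := by rw [hD.sq x hx, hD.sq z hz, one_mul]
  have hvx : Commute v x := (Commute.refl x).mul_left hc₀.symm
  set a := x * y with ha
  have hap : a ^ p = 1 := hD.pow_prod hx hy hxy
  have hai : a⁻¹ = y * x := by rw [ha, mul_inv_rev, hD.inv_eq hx, hD.inv_eq hy]
  have hva : ¬ Commute v a := fun h => by
    refine (hD.comm_pair_conj hx hz hy hxz hc₀ hxy hzy).1 ?_
    have h' : Commute v y := by
      have h1 := hvx.mul_right h
      rwa [ha, ← mul_assoc, hD.sq x hx, one_mul] at h1
    show v * y * v = y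
    rw [h'.eq, mul_assoc, hvv, mul_one]
  have hva' : ∀ k : ℕ, ¬ p ∣ k → ¬ Commute v (a ^ k) := by
    intro k hk h
    obtain ⟨m, hm⟩ := exists_pow_eq_self_of_coprime (x := a) (n := k) (by
      rw [hD.orderOf_prod hx hy hxy]
      exact (Nat.coprime_comm.mp ((Nat.Prime.coprime_iff_not_dvd hD.prime).mpr hk)))
    exact hva (hm ▸ h.pow_right m)
  -- conjugates of `v` by the outside members commute with it
  have hcv : ∀ w ∈ D, ¬ Commute x w → ¬ Commute z w → Commute v (w * v * w) := by
    intro w hw hxw hzw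
    have h1 := (hD.comm_pair_conj hx hz hw hxz hc₀ hxw hzw).2
    show v * (w * v * w) = w * v * w * v
    have h2 : w * (v * w * v) = v * w * v * w := h1.eq
    calc v * (w * v * w) = v * w * v * w := by simp only [mul_assoc]
      _ = w * (v * w * v) := h2.symm
      _ = w * v * w * v := by simp only [mul_assoc]
  set v₁ := y * v * y with hv₁
  have hvv₁ : Commute v v₁ := hcv y hy hxy hzy
  have hv₁v₁ : v₁ * v₁ = 1 := by
    simp only [hv₁, ← mul_assoc, mul_assoc _ y y, hD.sq y hy, mul_one]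
    rw [mul_assoc y v v, hvv, mul_one, hD.sq y hy]
  have hv₁i : v₁⁻¹ = v₁ := inv_eq_of_mul_eq_one_right hv₁v₁
  -- `v₁` commutes with `x v₁ x`
  have hw2D : y * x * y ∈ D := hD.conjD hy hx
  have hxw2 : ¬ Commute x (y * x * y) := hD.not_comm_conj' hy hx fun h => hxy h.symm
  have hzw2 : ¬ Commute z (y * x * y) := by
    intro h
    refine hzy ?_
    have h1 : Commute z (a ^ 2) := by
      have h2 := hc₀.symm.mul_right h
      rw [pow_two, ha]
      simpa only [mul_assoc] using h2
    obtain ⟨j, hj⟩ := hD.odd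
    have h3 : Commute z a := by
      have h4 := h1.pow_right (j + 1)
      rwa [← pow_mul, show 2 * (j + 1) = p + 1 by omega, pow_succ, hap, one_mul] at h4
    have h5 := hc₀.symm.mul_right h3
    rwa [ha, ← mul_assoc, hD.sq x hx, one_mul] at h5
  have hv₁x : Commute v₁ (x * v₁ * x) := by
    have h1 := (hcv _ hw2D hxw2 hzw2).map (MulAut.conj y).toMonoidHom
    simp only [MulEquiv.coe_toMonoidHom, MulAut.conj_apply, hD.inv_eq hy, ← hv₁] at h1
    convert h1 using 1
    simp only [hv₁, ← mul_assoc, mul_assoc _ y y, hD.sq y hy, one_mul, mul_one]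
  set z' := v₁ * x * v₁ with hz'
  set z'' := v₁ * z * v₁ with hz''
  have hz'D : z' ∈ D := by
    have := hD.conj v₁ x hx
    rwa [hv₁i] at this
  have hz''D : z'' ∈ D := by
    have := hD.conj v₁ z hz
    rwa [hv₁i] at this
  have hprod : z' * z'' = v := by
    calc v₁ * x * v₁ * (v₁ * z * v₁) = v₁ * (x * z) * v₁ := by
          simp only [← mul_assoc, mul_assoc _ v₁ v₁, hv₁v₁, mul_one]
      _ = v := by rw [← hv, ← hvv₁.eq, mul_assoc, hv₁v₁, mul_one]
  have hz'x : Commute z' x := by
    show v₁ * x * v₁ * x = x * (v₁ * x * v₁)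
    calc v₁ * x * v₁ * x = v₁ * (x * v₁ * x) := by simp only [mul_assoc]
      _ = x * v₁ * x * v₁ := hv₁x.eq
      _ = x * (v₁ * x * v₁) := by simp only [mul_assoc]
  have hne1 : z' ≠ x := by
    intro e
    refine hva' 2 (fun hd => by
      have := Nat.le_of_dvd (by norm_num) hd; have := hD.five; omega) ?_
    have hc1 : Commute v₁ x := by
      show v₁ * x = x * v₁
      calc v₁ * x = v₁ * x * (v₁ * v₁) := by rw [hv₁v₁, mul_one]
        _ = z' * v₁ := by rw [hz']; simp only [mul_assoc]
        _ = x * v₁ := by rw [e]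
    show v * a ^ 2 = a ^ 2 * v
    calc v * a ^ 2 = v * x * (y * x * y) := by rw [pow_two, ha]; simp only [mul_assoc]
      _ = x * v * y * x * y := by rw [hvx.eq]; simp only [mul_assoc]
      _ = x * y * (v₁ * x) * y := by
        simp only [hv₁, ← mul_assoc, mul_assoc _ y y, hD.sq y hy, mul_one]
      _ = a ^ 2 * v := by
        rw [hc1.eq, pow_two, ha, hv₁]
        simp only [← mul_assoc, mul_assoc _ y y, hD.sq y hy, mul_one]
  have hne2 : z' ≠ z := by
    intro e
    refine hva' 3 (fun hd => by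
      have := Nat.le_of_dvd (by norm_num) hd; have := hD.five; omega) ?_
    have h1 : x * v₁ * x = v * v₁ := by
      have h2 : v₁ * x * v₁ * x = z * x := by rw [← hz', e]
      calc x * v₁ * x = v₁ * (v₁ * x * v₁ * x) := by
            simp only [← mul_assoc, hv₁v₁, one_mul]
        _ = v₁ * v := by rw [h2, hc₀.eq.symm]
        _ = v * v₁ := hvv₁.eq.symm
    -- conjugating by `a`
    have e1 : a⁻¹ * v * a = v₁ := by
      rw [hai, ha, hv₁]
      calc y * x * v * (x * y) = y * (x * v * x) * y := by simp only [mul_assoc]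
        _ = y * v * y := by rw [← hvx.eq, mul_assoc v x x, hD.sq x hx, mul_one]
    have e2 : a * v * a⁻¹ = v * v₁ := by
      rw [← h1, hai, ha, hv₁]
      simp only [mul_assoc]
    have e3 : a⁻¹ * v₁ * a = v * v₁ := by
      have h3 : a⁻¹ * (a * v * a⁻¹) * a = (a⁻¹ * v * a) * (a⁻¹ * v₁ * a) := by rw [e2]; group
      rw [e1, show a⁻¹ * (a * v * a⁻¹) * a = v by group] at h3
      calc a⁻¹ * v₁ * a = v₁ * (v₁ * (a⁻¹ * v₁ * a)) := by rw [← mul_assoc v₁ v₁, hv₁v₁, one_mul]
        _ = v₁ * v := by rw [← h3]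
        _ = v * v₁ := hvv₁.eq.symm
    have e4 : a⁻¹ * (v * v₁) * a = v := by
      calc a⁻¹ * (v * v₁) * a = (a⁻¹ * v * a) * (a⁻¹ * v₁ * a) := by group
        _ = v := by rw [e1, e3, hvv₁.eq, ← mul_assoc, hv₁v₁, one_mul]
    show v * a ^ 3 = a ^ 3 * v
    rw [pow_succ, pow_succ, pow_one]
    calc v * (a * a * a) = a * (a⁻¹ * v * a) * a * a := by group
      _ = a * (a * (a⁻¹ * v₁ * a)) * a := by rw [e1]; group
      _ = a * (a * (a * (a⁻¹ * (v * v₁) * a))) := by rw [e3]; group
      _ = a * a * a * v := by rw [e4]; simp only [mul_assoc]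
  obtain ⟨y', hy', hz'y', hxy'⟩ := NT z' hz'D x hx hne1 hz'x
  have hz''y' : ¬ Commute z'' y' := by
    intro h
    have h1 : Commute v y' := hprod ▸ hz'y'.mul_left h
    refine (hD.comm_pair_conj hx hz hy' hxz hc₀ hxy' fun hzy' => hxy' ?_).1 ?_
    · have h2 := h1.mul_left hzy'
      rwa [hv, mul_assoc, hD.sq z hz, mul_one] at h2
    · show v * y' * v = y'
      rw [h1.eq, mul_assoc, hvv, mul_one]
  have hz'z'' : Commute z' z'' := by
    have h := hc₀.map (MulAut.conj v₁).toMonoidHom
    simp only [MulEquiv.coe_toMonoidHom, MulAut.conj_apply, hv₁i] at h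
    exact h
  have hconjy : v * y' * v = z'' * y' * z'' := by
    calc v * y' * v = z'' * (z' * y' * z') * z'' := by
          nth_rw 1 [← hprod]
          rw [hz'z''.eq, ← hprod]
          simp only [mul_assoc]
      _ = z'' * y' * z'' := by rw [hz'y'.eq, mul_assoc y', hD.sq z' hz'D, mul_one]
  have hzy' : ¬ Commute z y' := by
    intro h
    have h2 : x * y' * x = z'' * y' * z'' := by
      rw [← hconjy]
      calc x * y' * x = x * (z * y' * z) * x := by rw [h.eq, mul_assoc y', hD.sq z hz, mul_one]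
        _ = v * y' * v := by
          conv_rhs => arg 2; rw [hv, hc₀.eq]
          simp only [hv, mul_assoc]
    have h3 : x = z'' := hD.swap_unique hx hz''D hy' h2 (hD.ne_of_not_comm hx hxy')
    refine hne2 ?_
    calc z' = v * z''⁻¹ := by rw [← hprod, mul_inv_cancel_right]
      _ = z := by
        rw [← h3, hD.inv_eq hx, hv, mul_assoc, ← hc₀.eq, ← mul_assoc, hD.sq x hx, one_mul]
  have h := (hD.comm_pair_conj hx hz hy' hxz hc₀ hxy' hzy').2
  rw [show x * z * y' * (x * z) = z'' * y' * z'' from hconjy] at h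
  exact hD.not_comm_conj' hz''D hy' hz''y' h

/-- The rank three theorem. -/
theorem three_transpositions (hsol : ∀ N : Subgroup G, N.Normal → Group.IsSolvable ↥N → N = ⊥)
    {D : Set G} (hinv : ∀ d ∈ D, orderOf d = 2) (hconj : ∃ d ∈ D, D = conjugatesOf d)
    (hgen : Subgroup.closure D = ⊤)
    (hrank : ∀ x ∈ D, ∃ y ∈ D, ∃ z ∈ D, x ≠ y ∧ x ≠ z ∧ ∀ w ∈ D, w ≠ x →
      (∃ g : G, Commute g x ∧ g * y * g⁻¹ = w) ∨ (∃ g : G, Commute g x ∧ g * z * g⁻¹ = w)) :
    ∀ d ∈ D, ∀ e ∈ D, (d * e) ^ 2 = 1 ∨ (d * e) ^ 3 = 1 := by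
  classical
  obtain ⟨x, hx, hDx⟩ := hconj
  have htr : ∀ d ∈ D, ∀ e ∈ D, ∃ g : G, g * d * g⁻¹ = e := by
    intro d hd e he
    rw [hDx] at hd he
    have hd' : IsConj x d := hd
    have he' : IsConj x e := he
    exact isConj_iff.mp (hd'.symm.trans he')
  have hcl : ∀ (g : G), ∀ d ∈ D, g * d * g⁻¹ ∈ D := by
    intro g d hd
    rw [hDx] at hd ⊢
    have hd' : IsConj x d := hd
    exact hd'.trans (isConj_iff.mpr ⟨g, rfl⟩)
  have hsq : ∀ d ∈ D, d * d = 1 := fun d hd => H66.mul_self_of_orderOf_two (hinv d hd)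
  have hne : ∀ d ∈ D, d ≠ 1 := fun d hd e => by
    have := hinv d hd
    rw [e, orderOf_one] at this
    omega
  have hord1 : ∀ d ∈ D, ∀ e ∈ D, orderOf (d * e) = 1 → d = e := by
    intro d hd e he h
    rw [orderOf_eq_one_iff] at h
    rw [eq_inv_of_mul_eq_one_left h, inv_eq_of_mul_eq_one_right (hsq e he)]
  have hcomm2 : ∀ d ∈ D, ∀ e ∈ D, Commute d e → (d * e) ^ 2 = 1 := by
    intro d hd e he h
    rw [h.mul_pow, pow_two, pow_two, hsq d hd, hsq e he, one_mul]
  obtain ⟨y, hy, z, hz, hxy, hxz, hcov⟩ := hrank x hx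
  have hoc : ∀ g d e : G, orderOf (g * d * g⁻¹ * (g * e * g⁻¹)) = orderOf (d * e) := by
    intro g d e
    rw [show g * d * g⁻¹ * (g * e * g⁻¹) = g * (d * e) * g⁻¹ by group]
    exact MulEquiv.orderOf_eq (MulAut.conj g) (d * e)
  have hn : ∀ d ∈ D, ∀ e ∈ D, d ≠ e →
      orderOf (d * e) = orderOf (x * y) ∨ orderOf (d * e) = orderOf (x * z) := by
    intro d hd e he hde
    obtain ⟨g, hg⟩ := htr d hd x hx
    have he' : g * e * g⁻¹ ≠ x := fun h => hde (by
      rw [← hg] at h
      exact (mul_left_cancel (mul_right_cancel h)).symm)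
    have hord := hoc g d e
    rw [hg] at hord
    rcases hcov _ (hcl g e he) he' with ⟨h, hhx, hh⟩ | ⟨h, hhx, hh⟩
    · left
      rw [← hord, ← hh, ← hoc h x y, hhx.eq, mul_inv_cancel_right]
    · right
      rw [← hord, ← hh, ← hoc h x z, hhx.eq, mul_inv_cancel_right]
  -- an odd prime order occurs
  obtain ⟨q, hq, hq2, hqmem⟩ : ∃ q : ℕ, q.Prime ∧ q ≠ 2 ∧ ∃ d ∈ D, ∃ e ∈ D, orderOf (d * e) = q := by
    have hO : x ∉ Cfsg.pCore 2 G := by
      intro hx2
      haveI : Fact (Nat.Prime 2) := ⟨Nat.prime_two⟩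
      haveI := (Cfsg.Comp.pCore_isPGroup (G := G) 2).isNilpotent
      have h := hsol (Cfsg.pCore 2 G) inferInstance inferInstance
      rw [h, Subgroup.mem_bot] at hx2
      exact hne x hx hx2
    obtain ⟨h, h1, hodd, hinvh⟩ := H65.exists_odd_inverted (hinv x hx) hO
    obtain ⟨q, hq, hdvd⟩ := Nat.exists_prime_and_dvd (n := orderOf h) (fun e => h1 (orderOf_eq_one_iff.mp e))
    have hq2 : q ≠ 2 := fun e => by
      have := hodd.of_dvd_nat hdvd
      rw [e] at this
      exact absurd this (by decide)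
    obtain ⟨m, hm⟩ := hdvd
    have hm0 : 0 < m := Nat.pos_of_ne_zero fun e => by
      have := orderOf_pos h
      rw [hm, e, mul_zero] at this
      omega
    have hk : orderOf (h ^ m) = q := by
      rw [orderOf_pow_of_dvd hm0.ne' ⟨q, by rw [hm, mul_comm]⟩, hm, Nat.mul_div_cancel _ hm0]
    set k := h ^ m
    have hxk : x * k * x⁻¹ = k⁻¹ := by rw [← conj_pow, hinvh, inv_pow]
    have hk2 : orderOf ((k ^ 2)⁻¹) = q := by
      rw [orderOf_inv, Nat.Coprime.orderOf_pow (by rw [hk]; exact (Nat.coprime_primes hq Nat.prime_two).mpr hq2),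
        hk]
    refine ⟨q, hq, hq2, x, hx, k * x * k⁻¹, hcl k x hx, ?_⟩
    rw [← hk2]
    congr 1
    calc x * (k * x * k⁻¹) = x * k * x⁻¹ * (x * x) * k⁻¹ * (1 : G) := by
          rw [hsq x hx, mul_one, mul_one]
          nth_rw 2 [← inv_eq_of_mul_eq_one_right (hsq x hx)]
          simp only [mul_assoc]
      _ = (k ^ 2)⁻¹ := by rw [hxk, hsq x hx, pow_two, mul_inv_rev, mul_one, mul_one]
  obtain ⟨d₁, hd₁, e₁, he₁, hq₁⟩ := hqmem
  have hde₁ : d₁ ≠ e₁ := fun e => by
    rw [e, hsq e₁ he₁, orderOf_one] at hq₁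
    exact hq.one_lt.ne hq₁
  -- order two occurs
  obtain ⟨d₂, hd₂, e₂, he₂, hde₂, hq₂⟩ : ∃ d ∈ D, ∃ e ∈ D, d ≠ e ∧ orderOf (d * e) = 2 := by
    by_contra hno
    push Not at hno
    have hiso : Cfsg.IsIsolatedInvolution x := ⟨hinv x hx, fun g hg => by
      by_contra hgx
      have h2 : orderOf (x * (g * x * g⁻¹)) ∣ 2 :=
        orderOf_dvd_of_pow_eq_one (hcomm2 x hx _ (hcl g x hx) hg)
      rcases (Nat.dvd_prime Nat.prime_two).mp h2 with h | h
      · exact hgx (hord1 x hx _ (hcl g x hx) h).symm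
      · exact hno x hx _ (hcl g x hx) (Ne.symm hgx) h⟩
    haveI : Fact (Nat.Prime 2) := ⟨Nat.prime_two⟩
    have hOodd : Odd (Nat.card (Cfsg.pPrimeCore 2 G)) := by
      rw [Nat.odd_iff]
      have := Cfsg.Comp.not_dvd_card_pPrimeCore (G := G) 2
      omega
    have hO := hsol _ inferInstance (H16.FT.oddOrder hOodd)
    have hz' := H85.zStar hiso
    refine hxy ?_
    obtain ⟨g, hg⟩ := htr x hx y hy
    have h := hz' g
    rw [hO, Subgroup.mem_bot] at h
    have h' : x * g = g * x := by
      rw [mul_inv_eq_one, mul_inv_eq_iff_eq_mul] at h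
      exact h
    rw [← hg, ← h', mul_inv_cancel_right]
  have hset : ∀ d ∈ D, ∀ e ∈ D, d ≠ e → orderOf (d * e) = 2 ∨ orderOf (d * e) = q := by
    intro d hd e he hde
    have h1 := hn d hd e he hde
    have h2 := hn d₁ hd₁ e₁ he₁ hde₁
    have h3 := hn d₂ hd₂ e₂ he₂ hde₂
    rw [hq₁] at h2
    rw [hq₂] at h3
    omega
  rcases (show q = 3 ∨ 5 ≤ q by
    have := hq.two_le
    rcases Nat.lt_or_ge q 5 with h | h
    · interval_cases q <;> first | omega | exact absurd hq (by decide)
    · exact Or.inr h) with hq3 | hq5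
  · intro d hd e he
    by_cases hde : d = e
    · left; rw [hde, hsq e he, one_pow]
    rcases hset d hd e he hde with h | h
    · left; rw [← h]; exact pow_orderOf_eq_one _
    · right; rw [← hq3, ← h]; exact pow_orderOf_eq_one _
  have hD : Cls q D :=
    { prime := hq
      five := hq5
      sq := hsq
      ne := hne
      conj := hcl
      ord := fun d hd e he => by
        by_cases hde : d = e
        · exact Or.inl (by rw [hde])
        rcases hset d hd e he hde with h | h
        · left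
          have h2 : (d * e) * (d * e) = 1 := by rw [← pow_two, ← h]; exact pow_orderOf_eq_one _
          show d * e = e * d
          rw [eq_inv_of_mul_eq_one_left h2, mul_inv_rev, inv_eq_of_mul_eq_one_right (hsq d hd),
            inv_eq_of_mul_eq_one_right (hsq e he)]
        · exact Or.inr (h ▸ pow_orderOf_eq_one _) }
  have hA : ∀ u ∈ D, ∃ a ∈ D, a ≠ u ∧ Commute u a := by
    intro u hu
    obtain ⟨g, hg⟩ := htr d₂ hd₂ u hu
    refine ⟨g * e₂ * g⁻¹, hcl g e₂ he₂, fun h => hde₂ ?_, ?_⟩
    · rw [← hg] at h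
      exact (mul_left_cancel (mul_right_cancel h)).symm
    · rw [← hg]
      refine (?_ : Commute d₂ e₂).map (MulAut.conj g).toMonoidHom
      by_contra h
      have := hD.orderOf_prod hd₂ he₂ h
      omega
  have hB : ∀ u ∈ D, ∃ b ∈ D, ¬ Commute u b := by
    intro u hu
    obtain ⟨g, hg⟩ := htr d₁ hd₁ u hu
    refine ⟨g * e₁ * g⁻¹, hcl g e₁ he₁, fun h => ?_⟩
    have h2 := orderOf_dvd_of_pow_eq_one (hcomm2 u hu _ (hcl g e₁ he₁) h)
    rw [← hg, hoc, hq₁] at h2
    exact hq2 ((Nat.prime_dvd_prime_iff_eq hq Nat.prime_two).mp h2)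
  refine (no_five hsol hD hgen htr hA ?_ ⟨x, hx⟩).elim
  intro u hu a ha b hb hau hbu hiff
  obtain ⟨s, hs, t, ht, hus, hut, hcov'⟩ := hrank u hu
  have hsame : ∀ (s w : G), (∃ g : G, Commute g u ∧ g * s * g⁻¹ = w) →
      (Commute u s ↔ Commute u w) := by
    rintro s w ⟨g, hgu, rfl⟩
    have e : g * u * g⁻¹ = u := by rw [hgu.eq, mul_inv_cancel_right]
    constructor
    · intro h
      have h' := h.map (MulAut.conj g).toMonoidHom
      rwa [MulEquiv.coe_toMonoidHom, MulAut.conj_apply, MulAut.conj_apply, e] at h'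
    · intro h
      have h' := h.map (MulAut.conj g⁻¹).toMonoidHom
      have e' : g⁻¹ * u * g⁻¹⁻¹ = u := by rw [(hgu.inv_left).eq, mul_inv_cancel_right]
      rw [MulEquiv.coe_toMonoidHom, MulAut.conj_apply, MulAut.conj_apply, e'] at h'
      simpa [mul_assoc] using h'
  have hjoin : ∀ s : G, (∃ g : G, Commute g u ∧ g * s * g⁻¹ = a) →
      (∃ g : G, Commute g u ∧ g * s * g⁻¹ = b) → ∃ g : G, Commute g u ∧ g * a * g⁻¹ = b := by
    rintro s ⟨g, hgu, rfl⟩ ⟨k, hku, rfl⟩
    exact ⟨k * g⁻¹, hku.mul_left hgu.inv_left, by group⟩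
  have hmix : ¬ (Commute u s ↔ Commute u t) := by
    intro hst
    obtain ⟨a', ha', hau', hca⟩ := hA u hu
    obtain ⟨b', hb', hcb⟩ := hB u hu
    have hbu' : b' ≠ u := fun e => hcb (by rw [e])
    have h1 : Commute u s := by
      rcases hcov' a' ha' hau' with h | h
      · exact (hsame _ _ h).mpr hca
      · exact hst.mpr ((hsame _ _ h).mpr hca)
    rcases hcov' b' hb' hbu' with h | h
    · exact hcb ((hsame _ _ h).mp h1)
    · exact hcb ((hsame _ _ h).mp (hst.mp h1))
  rcases hcov' a ha hau with h | h <;> rcases hcov' b hb hbu with h' | h'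
  · exact hjoin s h h'
  · exact absurd (((hsame _ _ h).trans hiff).trans (hsame _ _ h').symm) hmix
  · exact absurd (((hsame _ _ h').trans hiff.symm).trans (hsame _ _ h).symm) hmix
  · exact hjoin t h h'

end H92.TP
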